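import Cfsg.Agent.J4T.TD

/-! Groups with an element of order three whose centralizer is the threefold or sixfold cover of
`M₂₂`: the elements of order three. -/

set_option autoImplicit false

namespace Cfsg.Lib.J4T

open Subgroup Cfsg.Lib.Spor Cfsg.Lib.SporChar Cfsg.Lib.Local Cfsg.Lib.SporChar.J4 Cfsg.Lib.Trans
  Cfsg.Lib.Spor.MP Equiv
open scoped commutatorElement
open Six (xC conj_cent conj_zp conj_mem_C)

variable {G : Type*} [Group G] {x z : G} {p : G → Perm GolayPt}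

/-- `C_G(x)` is a perfect central extension of `M₂₂` by `⟨x⟩ × ⟨z⟩`, where `z` may be trivial. -/
structure Sx (x z : G) (p : G → Perm GolayPt) : Prop where
  x3 : orderOf x = 3
  zz : z * z = 1
  zC : z ∈ centralizer ({x} : Set G)
  cent : centralizer ({x} : Set G) ≤ centralizer ({z} : Set G)
  p_mem : ∀ g ∈ centralizer ({x} : Set G), p g ∈ Spor.M22
  p_mul : ∀ a ∈ centralizer ({x} : Set G), ∀ b ∈ centralizer ({x} : Set G), p (a * b) = p a * p b
  p_eq_one : ∀ c ∈ centralizer ({x} : Set G), p c = 1 ↔ c ∈ zpowers x ⊔ zpowers z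
  p_surj : ∀ σ ∈ Spor.M22, ∃ c ∈ centralizer ({x} : Set G), p c = σ
  perf : centralizer ({x} : Set G) ≤ ⁅centralizer ({x} : Set G), centralizer ({x} : Set G)⁆

theorem Six.sx (h : Six x z p) : Sx x z p :=
  ⟨h.x3, h.zz, h.zC, h.cent, fun g _ => h.p_mem g, h.p_mul, h.p_eq_one, h.p_surj, h.perf⟩

theorem zp2 (hz : z * z = 1) {w : G} : w ∈ zpowers z ↔ w = 1 ∨ w = z := by
  by_cases e : z = 1
  · simp [e]
  · exact mem_zpowers_iff_of_orderOf_two (J4C.orderOf_two hz e)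

namespace Sx

variable (h : Sx x z p)
include h

/-- The map onto `M₂₂`. -/
def hom : centralizer ({x} : Set G) →* Perm GolayPt :=
  MonoidHom.mk' (fun g => p g) fun a b => h.p_mul a a.2 b b.2

theorem cube : x ^ 3 = 1 := h.x3 ▸ pow_orderOf_eq_one x

theorem x_ne : x ≠ 1 := fun e => by have := h.x3; rw [e, orderOf_one] at this; omega

theorem p_one : p 1 = 1 := h.hom.map_one

theorem p_inv {g : G} (hg : g ∈ centralizer ({x} : Set G)) : p g⁻¹ = (p g)⁻¹ :=
  h.hom.map_inv ⟨g, hg⟩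

theorem p_pow {g : G} (hg : g ∈ centralizer ({x} : Set G)) (n : ℕ) : p (g ^ n) = p g ^ n :=
  h.hom.map_pow ⟨g, hg⟩ n

theorem p_conj {k g : G} (hk : k ∈ centralizer ({x} : Set G)) (hg : g ∈ centralizer ({x} : Set G)) :
    p (k * g * k⁻¹) = p k * p g * (p k)⁻¹ := by
  rw [h.p_mul _ (mul_mem hk hg) _ (inv_mem hk), h.p_mul _ hk _ hg, h.p_inv hk]

theorem p_x : p x = 1 := (h.p_eq_one x xC).2 (mem_sup_left (mem_zpowers x))

theorem p_z : p z = 1 := (h.p_eq_one z h.zC).2 (mem_sup_right (mem_zpowers z))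

theorem ker_le : zpowers x ⊔ zpowers z ≤ centralizer ({x} : Set G) :=
  sup_le (zpowers_le.2 xC) (zpowers_le.2 h.zC)

theorem ker_comm {w c : G} (hw : w ∈ zpowers x ⊔ zpowers z) (hc : c ∈ centralizer ({x} : Set G)) :
    c * w = w * c := by
  have : zpowers x ⊔ zpowers z ≤ centralizer ({c} : Set G) :=
    sup_le (zpowers_le.2 (mC.2 (mC.1 hc).symm)) (zpowers_le.2 (mC.2 (mC.1 (h.cent hc)).symm))
  exact (mC.1 (this hw)).symm

theorem ker_eq {w : G} (hw : w ∈ zpowers x ⊔ zpowers z) :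
    ∃ a ∈ zpowers x, ∃ b ∈ zpowers z, w = a * b := by
  have hn : zpowers x ≤ normalizer (zpowers z : Set G) :=
    le_trans (zpowers_le.2 (by rw [centralizer_zpowers_eq_sing]; exact h.cent xC))
      (centralizer_le_normalizer _)
  have := (Set.ext_iff.1 (coe_mul_of_left_le_normalizer_right _ _ hn) w).1 hw
  obtain ⟨a, ha, b, hb, e⟩ := this
  exact ⟨a, ha, b, hb, e.symm⟩

theorem sq_zp {b : G} (hb : b ∈ zpowers z) : b * b = 1 := by
  obtain ⟨i, rfl⟩ := hb
  show z ^ i * z ^ i = 1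
  rw [← (Commute.refl z).mul_zpow, h.zz, one_zpow]

theorem cube_zp {a : G} (ha : a ∈ zpowers x) : a ^ 3 = 1 := by
  obtain ⟨i, rfl⟩ := ha
  show (x ^ i) ^ 3 = 1
  rw [← zpow_natCast, zpow_comm, zpow_natCast, h.cube, one_zpow]

theorem mem_zx {w : G} (hw : w ∈ zpowers x ⊔ zpowers z) {n : ℕ} (h3 : w ^ 3 ^ n = 1) :
    w ∈ zpowers x := by
  obtain ⟨a, ha, b, hb, rfl⟩ := h.ker_eq hw
  have c : Commute a b := h.ker_comm (mem_sup_right hb) (h.ker_le (mem_sup_left ha))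
  have hb2 : b ^ 2 = 1 := by rw [pow_two, h.sq_zp hb]
  have h4 : (a * b) ^ 3 ^ (n + 1) = 1 := by rw [pow_succ, pow_mul, h3, one_pow]
  rw [c.mul_pow, pow_succ', pow_mul, h.cube_zp ha, one_pow, one_mul] at h4
  have : b = 1 := by
    have := pow_gcd_eq_one.2 ⟨hb2, h4⟩
    rwa [show Nat.gcd 2 (3 * 3 ^ n) = 1 from
      Nat.coprime_two_left.2 ((by decide : Odd 3).mul ((by decide : Odd 3).pow)), pow_one] at this
  rw [this, mul_one]; exact ha

theorem mem_zz {w : G} (hw : w ∈ zpowers x ⊔ zpowers z) {n : ℕ} (h2 : w ^ 2 ^ n = 1) :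
    w ∈ zpowers z := by
  obtain ⟨a, ha, b, hb, rfl⟩ := h.ker_eq hw
  have c : Commute a b := h.ker_comm (mem_sup_right hb) (h.ker_le (mem_sup_left ha))
  have h4 : (a * b) ^ 2 ^ (n + 1) = 1 := by rw [pow_succ, pow_mul, h2, one_pow]
  rw [c.mul_pow, pow_succ' 2 n, pow_mul b, pow_two b, h.sq_zp hb, one_pow, mul_one] at h4
  have : a = 1 := by
    have := pow_gcd_eq_one.2 ⟨h4, h.cube_zp ha⟩
    rwa [show Nat.gcd (2 * 2 ^ n) 3 = 1 by rw [← pow_succ']; exact cop23 _, pow_one] at this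
  rw [this, one_mul]; exact hb

theorem range_hom : h.hom.range = Spor.M22 := by
  ext σ
  exact ⟨fun ⟨c, e⟩ => e ▸ h.p_mem c c.2, fun hσ => by
    obtain ⟨c, hc, e⟩ := h.p_surj σ hσ
    exact ⟨⟨c, hc⟩, e⟩⟩

theorem ker_hom : h.hom.ker = (zpowers x ⊔ zpowers z).subgroupOf _ := by
  ext c; exact h.p_eq_one c c.2

theorem card_zp : Nat.card (zpowers z) = 1 ∨ Nat.card (zpowers z) = 2 := by
  by_cases e : z = 1
  · simp [e]
  · rw [Nat.card_zpowers, J4C.orderOf_two h.zz e]; exact .inr rfl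

theorem card_ker [Finite G] : Nat.card ↥(zpowers x ⊔ zpowers z) = 3 * Nat.card (zpowers z) := by
  have h1 := CD.card_sup_mul_card_inf_of_le_centralizer (H := zpowers x) (K := zpowers z)
    (zpowers_le.2 (by rw [centralizer_zpowers_eq_sing]; exact h.cent xC))
  rwa [show zpowers x ⊓ zpowers z = ⊥ from eq_bot_iff.2 fun w hw => by
    have := pow_gcd_eq_one.2 ⟨h.cube_zp hw.1, (pow_two w).trans (h.sq_zp hw.2)⟩
    simpa using this, card_bot, mul_one, Nat.card_zpowers x, h.x3] at h1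

theorem cardC [Finite G] :
    Nat.card (centralizer ({x} : Set G)) = 3 * Nat.card (zpowers z) * 443520 := by
  rw [← card_mul_index h.hom.ker, index_ker, h.range_hom, card_M22, h.ker_hom,
    Nat.card_congr (subgroupOfEquivOfLe h.ker_le).toEquiv, h.card_ker]

theorem conj (g : G) : Sx (g * x * g⁻¹) (g * z * g⁻¹) (fun a => p (g⁻¹ * a * g)) where
  x3 := ((MulAut.conj g).orderOf_eq x).trans h.x3
  zz := by rw [conj_mul, h.zz]; simp
  zC := conj_cent.2 (by simpa [mul_assoc] using h.zC)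
  cent := fun c hc => conj_cent.2 (h.cent (conj_cent.1 hc))
  p_mem := fun _ hc => h.p_mem _ (conj_cent.1 hc)
  p_mul := fun a ha b hb => by
    rw [← h.p_mul _ (conj_cent.1 ha) _ (conj_cent.1 hb)]; congr 1; group
  p_eq_one := fun c hc => by
    rw [h.p_eq_one _ (conj_cent.1 hc)]
    have e : zpowers (g * x * g⁻¹) ⊔ zpowers (g * z * g⁻¹) =
        (zpowers x ⊔ zpowers z).map (MulAut.conj g).toMonoidHom := by
      rw [Subgroup.map_sup, MonoidHom.map_zpowers, MonoidHom.map_zpowers]; rfl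
    rw [e]
    exact ⟨fun a => ⟨_, a, by simp [mul_assoc]⟩, fun ⟨a, ha, e⟩ => by
      rw [← e]; simpa [mul_assoc] using ha⟩
  p_surj := fun σ hσ => by
    obtain ⟨c, hc, e⟩ := h.p_surj σ hσ
    exact ⟨g * c * g⁻¹, conj_cent.2 (by simpa [mul_assoc] using hc), by simpa [mul_assoc] using e⟩
  perf := by
    have e : centralizer ({g * x * g⁻¹} : Set G) =
        (centralizer ({x} : Set G)).map (MulAut.conj g).toMonoidHom := by
      ext c
      rw [conj_cent]
      exact ⟨fun a => ⟨_, a, by simp [mul_assoc]⟩, fun ⟨a, ha, e⟩ => by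
        rw [← e]; simpa [mul_assoc] using ha⟩
    rw [e, ← map_commutator]
    exact map_mono h.perf

theorem central {w : G} (hw : w ∈ centralizer ({x} : Set G))
    (hc : ∀ c ∈ centralizer ({x} : Set G), c * w = w * c) : w ∈ zpowers x ⊔ zpowers z := by
  refine (h.p_eq_one w hw).1 (eq_one_of_cent (M22_le_D22 (h.p_mem w hw)) fun τ hτ => ?_)
  obtain ⟨c, hc', rfl⟩ := h.p_surj τ hτ
  rw [← h.p_mul _ hw _ hc', ← h.p_mul _ hc' _ hw, hc c hc']

/-- The normalizer of `⟨x⟩` centralizes `z`. -/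
theorem normZ {k : G} (e : k * x * k⁻¹ = x ∨ k * x * k⁻¹ = x⁻¹) :
    k ∈ centralizer ({z} : Set G) := by
  have h1 : k * z * k⁻¹ ∈ zpowers x ⊔ zpowers z := h.central (conj_mem_C e h.zC) fun c hc => by
    have := mC.1 (h.cent (conj_mem_C (inv_or_of_or e) hc))
    calc c * (k * z * k⁻¹) = k * (k⁻¹ * c * k⁻¹⁻¹ * z) * k⁻¹ := by group
      _ = _ := by rw [this]; group
  have h2 := h.mem_zz (n := 1) h1 (by rw [pow_one, conj_pow, pow_two, h.zz]; simp)
  rcases (zp2 h.zz).1 h2 with e' | e'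
  · exact mC'.2 (e'.trans (by simpa using e' : z = 1).symm)
  · exact mC'.2 e'

theorem or_of_norm {k : G} (hk : k * x * k⁻¹ ∈ zpowers x) :
    k * x * k⁻¹ = x ∨ k * x * k⁻¹ = x⁻¹ :=
  (mem_zpowers_three h.x3 hk).resolve_left fun e => h.x_ne (by simpa using e)

theorem mem_norm {k : G} : k ∈ normalizer (zpowers x : Set G) ↔
    k * x * k⁻¹ = x ∨ k * x * k⁻¹ = x⁻¹ := by
  constructor
  · intro hk; exact h.or_of_norm ((mem_normalizer_iff.1 hk x).1 (mem_zpowers x))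
  · intro e
    have key : ∀ k : G, (k * x * k⁻¹ = x ∨ k * x * k⁻¹ = x⁻¹) → ∀ a ∈ zpowers x,
        k * a * k⁻¹ ∈ zpowers x := by
      rintro k e _ ⟨i, rfl⟩
      show k * x ^ i * k⁻¹ ∈ _
      rw [← conj_zpow]
      rcases e with e | e <;> rw [e]
      · exact zpow_mem (mem_zpowers x) i
      · exact zpow_mem (inv_mem (mem_zpowers x)) i
    refine mem_normalizer_iff.2 fun a => ⟨key k e a, fun ha => ?_⟩
    simpa [mul_assoc] using key _ (inv_or_of_or e) _ ha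

/-- A normal 2-subgroup of `C(x)` lies in `⟨z⟩`. -/
theorem mem_zp_of_norm {X : Subgroup G} (hX : IsPGroup 2 X)
    (hn : centralizer ({x} : Set G) ≤ normalizer (X : Set G)) {q : G} (hq : q ∈ X)
    (hc : q ∈ centralizer ({x} : Set G)) : q ∈ zpowers z := by
  have e := eq_bot_of_isPGroup (X := (X.subgroupOf (centralizer ({x} : Set G))).map h.hom)
    (((map_le_range _ _).trans h.range_hom.le).trans M22_le_D22) (by
      rintro σ hσ _ ⟨a, ha, rfl⟩
      obtain ⟨c, hc, rfl⟩ := h.p_surj σ hσ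
      exact ⟨⟨c * a * c⁻¹, mul_mem (mul_mem hc a.2) (inv_mem hc)⟩,
        (mem_normalizer_iff.1 (hn hc) a).1 ha, h.p_conj hc a.2⟩) (hX.comap_subtype.map _)
  have h1 : p q = 1 := mem_bot.1 (e ▸ ⟨⟨q, hc⟩, hq, rfl⟩)
  obtain ⟨n, hn⟩ := hX ⟨q, hq⟩
  exact h.mem_zz ((h.p_eq_one q hc).1 h1) (congrArg Subtype.val hn)

/-- A subgroup normalized by `C(x)` contains `C(x)` or meets it in the centre. -/
theorem le_or_le {X : Subgroup G} (hn : centralizer ({x} : Set G) ≤ normalizer (X : Set G)) :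
    centralizer ({x} : Set G) ≤ X ∨ X ⊓ centralizer ({x} : Set G) ≤ zpowers x ⊔ zpowers z := by
  rcases le_or_eq_bot (X := (X.subgroupOf (centralizer ({x} : Set G))).map h.hom)
    (((map_le_range _ _).trans h.range_hom.le).trans M22_le_D22) (by
      rintro σ hσ _ ⟨a, ha, rfl⟩
      obtain ⟨c, hc, rfl⟩ := h.p_surj σ hσ
      exact ⟨⟨c * a * c⁻¹, mul_mem (mul_mem hc a.2) (inv_mem hc)⟩,
        (mem_normalizer_iff.1 (hn hc) a).1 ha, h.p_conj hc a.2⟩) with e | e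
  · left
    refine h.perf.trans (commutator_le.2 fun a ha b hb => ?_)
    obtain ⟨a', ha', ea⟩ := e (h.p_mem a ha)
    obtain ⟨b', hb', eb⟩ := e (h.p_mem b hb)
    have k : ∀ {c : G} (hc : c ∈ centralizer ({x} : Set G)) (c' : centralizer ({x} : Set G)),
        h.hom c' = p c → (c' : G)⁻¹ * c ∈ zpowers x ⊔ zpowers z := fun hc c' e' => by
      refine (h.p_eq_one _ (mul_mem (inv_mem c'.2) hc)).1 ?_
      rw [h.p_mul _ (inv_mem c'.2) _ hc, h.p_inv c'.2, ← e']; exact inv_mul_cancel _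
    have c1 : Commute ((a' : G)⁻¹ * a) b := (h.ker_comm (k ha a' ea) hb).symm
    have c2 : Commute (a' : G) ((b' : G)⁻¹ * b) := h.ker_comm (k hb b' eb) a'.2
    have e1 : ⁅a, b⁆ = ⁅(a' : G), b⁆ := by
      rw [commutatorElement_def, commutatorElement_def]
      calc a * b * a⁻¹ * b⁻¹ = a' * ((a' : G)⁻¹ * a * b) * a⁻¹ * b⁻¹ := by group
        _ = _ := by rw [c1.eq]; group
    have e2 : ⁅(a' : G), b⁆ = ⁅(a' : G), (b' : G)⁆ := by
      rw [commutatorElement_def, commutatorElement_def]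
      calc (a' : G) * b * (a' : G)⁻¹ * b⁻¹
          = a' * b' * ((b' : G)⁻¹ * b * (a' : G)⁻¹) * b⁻¹ := by group
        _ = _ := by rw [← c2.inv_left.eq]; group
    rw [e1, e2, commutatorElement_def]
    exact mul_mem (mul_mem (mul_mem ha' hb') (inv_mem ha')) (inv_mem hb')
  · right
    rintro c ⟨h1, h2⟩
    exact (h.p_eq_one c h2).1 (mem_bot.1 (e ▸ ⟨⟨c, h2⟩, h1, rfl⟩))

theorem cent_of_comm {k : G}
    (e : ∀ m ∈ centralizer ({x} : Set G), k * m * k⁻¹ * m⁻¹ ∈ zpowers x ⊔ zpowers z) :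
    k * x * k⁻¹ = x := by
  have : ⁅centralizer ({x} : Set G), centralizer ({x} : Set G)⁆ ≤ centralizer ({k} : Set G) :=
    commutator_le.2 fun a ha b hb => by
      have c1 : Commute a (k * a * k⁻¹ * a⁻¹) := h.ker_comm (e a ha) ha
      have c2 : Commute b (k * a * k⁻¹ * a⁻¹) := h.ker_comm (e a ha) hb
      have c3 : Commute a (k * b * k⁻¹ * b⁻¹) := h.ker_comm (e b hb) ha
      have c4 : Commute b (k * b * k⁻¹ * b⁻¹) := h.ker_comm (e b hb) hb
      have c5 : Commute (k * a * k⁻¹ * a⁻¹) (k * b * k⁻¹ * b⁻¹) :=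
        h.ker_comm (e b hb) (h.ker_le (e a ha))
      generalize hu : k * a * k⁻¹ * a⁻¹ = u at c1 c2 c5
      generalize hv : k * b * k⁻¹ * b⁻¹ = v at c3 c4 c5
      have e1 : k * a * k⁻¹ = u * a := by rw [← hu]; group
      have e2 : k * b * k⁻¹ = v * b := by rw [← hv]; group
      refine mC.2 (mul_inv_eq_iff_eq_mul.1 ?_).symm
      rw [commutatorElement_def]
      calc k * (a * b * a⁻¹ * b⁻¹) * k⁻¹
          = (k * a * k⁻¹) * (k * b * k⁻¹) * (k * a * k⁻¹)⁻¹ * (k * b * k⁻¹)⁻¹ := by group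
        _ = u * (a * v * b * a⁻¹) * u⁻¹ * b⁻¹ * v⁻¹ := by rw [e1, e2]; group
        _ = (a * v) * b * a⁻¹ * b⁻¹ * v⁻¹ := by
          rw [← (((c1.mul_left c5.symm).mul_left c2).mul_left c1.inv_left).eq]; group
        _ = v * (a * b * a⁻¹ * b⁻¹) * v⁻¹ := by rw [c3.eq]; group
        _ = _ := by
          rw [← (((c3.mul_left c4).mul_left c3.inv_left).mul_left c4.inv_left).eq]; group
  exact mul_inv_eq_iff_eq_mul.2 (mC.1 (this (h.perf xC))).symm

theorem inf_x {X : Subgroup G} (hX : IsPGroup 2 X)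
    (hn : centralizer ({x} : Set G) ≤ normalizer (X : Set G)) (hz : z ∈ X) :
    X ⊓ centralizer ({x} : Set G) = zpowers z :=
  le_antisymm (fun _ hq => h.mem_zp_of_norm hX hn hq.1 hq.2) (zpowers_le.2 ⟨hz, h.zC⟩)

theorem not_mem_two {X : Subgroup G} (hX : IsPGroup 2 X) : x ∉ X := fun hx => by
  obtain ⟨n, hn⟩ := hX ⟨x, hx⟩
  have := pow_gcd_eq_one.2 ⟨congrArg Subtype.val hn, h.cube⟩
  rw [show Nat.gcd (2 ^ n) 3 = 1 from cop23 n, pow_one] at this
  exact h.x_ne this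

theorem conjp {σ : Perm GolayPt} (hσ : σ ∈ Spor.M22) : Sx x z fun a => σ * p a * σ⁻¹ where
  x3 := h.x3
  zz := h.zz
  zC := h.zC
  cent := h.cent
  p_mem := fun g hg => mul_mem (mul_mem hσ (h.p_mem g hg)) (inv_mem hσ)
  p_mul := fun a ha b hb => by rw [h.p_mul a ha b hb, conj_mul]
  p_eq_one := fun c hc => by rw [← h.p_eq_one c hc, conj_eq_one_iff]
  p_surj := fun τ hτ => by
    obtain ⟨c, hc, e⟩ := h.p_surj _ (mul_mem (mul_mem (inv_mem hσ) hτ) hσ)
    exact ⟨c, hc, by rw [e]; group⟩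
  perf := h.perf

theorem sub {X : Subgroup G} (hX : centralizer ({x} : Set G) ≤ X) :
    Sx (⟨x, hX xC⟩ : X) ⟨z, hX h.zC⟩ fun a => p a := by
  have e : ∀ {a : G} (ha : a ∈ X) (c : X), c ∈ centralizer ({⟨a, ha⟩} : Set X) ↔
      (c : G) ∈ centralizer ({a} : Set G) := fun ha c => by
    rw [mC, mC, Subtype.ext_iff]; rfl
  refine ⟨by rw [← orderOf_coe]; exact h.x3, Subtype.ext h.zz, (e _ _).2 h.zC,
    fun c hc => (e _ _).2 (h.cent ((e _ _).1 hc)), fun a ha => h.p_mem a ((e _ _).1 ha),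
    fun a ha b hb => h.p_mul a ((e _ _).1 ha) b ((e _ _).1 hb), fun c hc => ?_, fun σ hσ => ?_,
    fun c hc => ?_⟩
  · rw [h.p_eq_one c ((e _ _).1 hc), ← mem_map_iff_mem X.subtype_injective, Subgroup.map_sup,
      MonoidHom.map_zpowers, MonoidHom.map_zpowers]
    rfl
  · obtain ⟨c, hc, e1⟩ := h.p_surj σ hσ
    exact ⟨⟨c, hX hc⟩, (e _ _).2 hc, e1⟩
  · rw [← mem_map_iff_mem X.subtype_injective, map_commutator, map_cent, inf_eq_right.2 hX]
    exact h.perf ((e _ _).1 hc)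

omit h in
theorem cent_of_sq {c u w : G} (h3 : u ^ 3 = 1) (h2 : w * w = 1) (hw : Commute w u)
    (e : c * u * c⁻¹ = w * u) : c * u = u * c := by
  have h1 : (w * u) ^ 3 = 1 := by rw [← e, conj_pow, h3]; simp
  rw [hw.mul_pow, h3, mul_one, pow_succ, pow_two, h2, one_mul] at h1
  rw [h1, one_mul] at e
  exact mul_inv_eq_iff_eq_mul.1 e

theorem quot {X : Type*} [Group X] {π : G →* X} (hs : Function.Surjective π)
    (hk : ∀ c, π c = 1 ↔ c ∈ zpowers z) : ∃ q, Sx (π x) 1 q ∧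
      (∀ c, π c ∈ centralizer ({π x} : Set X) ↔ c ∈ centralizer ({x} : Set G)) ∧
      ∀ c ∈ centralizer ({x} : Set G), q (π c) = p c := by
  have e : ∀ c, π c ∈ centralizer ({π x} : Set X) ↔ c ∈ centralizer ({x} : Set G) := fun c => by
    refine ⟨fun hc => ?_, fun hc => mC.2 (by rw [← map_mul, mC.1 hc, map_mul])⟩
    have h1 : c * x * c⁻¹ * x⁻¹ ∈ zpowers z := (hk _).1 (by
      simp only [map_mul, map_inv, mC'.1 hc, mul_inv_cancel])
    exact mC.2 (cent_of_sq h.cube (h.sq_zp h1) (h.ker_comm (mem_sup_right h1) xC).symm (by group))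
  choose s hs' using hs
  have q : ∀ c ∈ centralizer ({x} : Set G), p (s (π c)) = p c := fun c hc => by
    have h1 : c⁻¹ * s (π c) ∈ zpowers z := (hk _).1 (by simp [hs'])
    have h2 := h.ker_le (mem_sup_right h1)
    rw [← mul_inv_cancel_left c (s (π c)), h.p_mul _ hc _ h2,
      (h.p_eq_one _ h2).2 (mem_sup_right h1), mul_one]
  have hm : centralizer ({π x} : Set X) = (centralizer ({x} : Set G)).map π := by
    ext c
    exact ⟨fun hc => ⟨s c, (e _).1 (by rwa [hs']), hs' c⟩, fun ⟨a, ha, e1⟩ => e1 ▸ (e a).2 ha⟩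
  refine ⟨fun a => p (s a), ⟨ord3 (by rw [← map_pow, h.cube, map_one]) fun e1 => h.x_ne ?_,
    one_mul 1, one_mem _, fun c _ => mC.2 (by simp), ?_, ?_, ?_, fun σ hσ => ?_, ?_⟩, e, q⟩
  · have := pow_gcd_eq_one.2 ⟨h.cube, (pow_two x).trans (h.sq_zp ((hk x).1 e1))⟩
    simpa using this
  · rw [hm]; rintro _ ⟨a, ha, rfl⟩; exact (q a ha).symm ▸ h.p_mem a ha
  · rw [hm]; rintro _ ⟨a, ha, rfl⟩ _ ⟨b, hb, rfl⟩
    rw [← map_mul, q _ (mul_mem ha hb), q a ha, q b hb, h.p_mul a ha b hb]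
  · rw [hm]; rintro _ ⟨a, ha, rfl⟩
    rw [q a ha, h.p_eq_one a ha, zpowers_one_eq_bot, sup_bot_eq, ← MonoidHom.map_zpowers,
      ← mem_comap, comap_map_eq, show π.ker = zpowers z from Subgroup.ext hk]
  · obtain ⟨c, hc, e1⟩ := h.p_surj σ hσ
    exact ⟨π c, (e c).2 hc, (q c hc).trans e1⟩
  · rw [hm, ← map_commutator]; exact map_mono h.perf

theorem card_map {K : Subgroup G} (hK : K ≤ centralizer ({x} : Set G)) [Finite G] :
    Nat.card K = Nat.card ((K.subgroupOf _).map h.hom) *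
      Nat.card ↥(K ⊓ (zpowers x ⊔ zpowers z)) := by
  have e := FT.card_eq_card_map_mul h.hom (K.subgroupOf _)
  rw [Nat.card_congr (subgroupOfEquivOfLe hK).toEquiv, h.ker_hom, inf_comm] at e
  exact e.trans (congrArg _ (Nat.card_congr (subgroupOfEquivOfLe
    (H := K ⊓ (zpowers x ⊔ zpowers z)) (inf_le_left.trans hK)).toEquiv))

theorem two_le {K : Subgroup G} (hK : K ≤ centralizer ({x} : Set G)) [Finite G]
    (h2 : ∀ a ∈ K, a * a = 1) : Nat.card K ≤ 16 * Nat.card (zpowers z) := by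
  have h4 := J4C.card_dvd_sixteen (X := (K.subgroupOf _).map h.hom) (a := none)
    (((map_le_range _ _).trans h.range_hom.le).trans (M22_le_D22.trans D22_le_M24))
    (by
      rintro _ ⟨a, ha, rfl⟩
      rw [← map_mul, show a * a = 1 from Subtype.ext (h2 _ ha), map_one])
    (by
      rintro _ ⟨a, -, rfl⟩
      exact (mem_M22.1 (h.p_mem a a.2)).2.1)
  rw [h.card_map hK]
  exact Nat.mul_le_mul (Nat.le_of_dvd (by norm_num) h4) (Subgroup.card_le_of_le fun a ha =>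
    h.mem_zz (n := 1) ha.2 (by rw [pow_one, pow_two, h2 a ha.1]))

variable [Finite G]

theorem mem_comm_of_sylow {P : Subgroup G} (hP : IsSylowIn 3 P (centralizer ({x} : Set G))) :
    x ∈ P ∧ x ∈ ⁅P, P⁆ := by
  have : Fact (Nat.Prime 3) := ⟨Nat.prime_three⟩
  set C := centralizer ({x} : Set G) with hC
  have hz : (⟨x, xC⟩ : C) ∈ center C := mem_center_iff.2 fun c => Subtype.ext (mC.1 c.2)
  have hxP : x ∈ P := hP.le_of_normal (Q := zpowers x)
    (IsPGroup.of_card (n := 1) (by rw [Nat.card_zpowers, h.x3, pow_one])) (zpowers_le.2 xC)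
    (fun c hc => h.mem_norm.2 (Or.inl (mC'.1 hc))) (mem_zpowers x)
  have hxc : (⟨x, xC⟩ : C) ∈ commutator C := by
    have hx := h.perf xC
    rw [← Subgroup.map_subtype_commutator] at hx
    obtain ⟨y, hy, e⟩ := hx
    have : y = ⟨x, xC⟩ := Subtype.ext e
    rwa [← this]
  have h4 := Trans.center_inf_commutator_inf_sylow_le hP.toSylow ⟨⟨hz, hxc⟩, hxP⟩
  refine ⟨hxP, ?_⟩
  rw [← hP.map_toSylow, ← map_commutator]
  exact ⟨_, h4, rfl⟩

theorem card_sylow {P : Subgroup G} (hP : IsSylowIn 3 P (centralizer ({x} : Set G))) :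
    Nat.card P = 27 := by
  have : Fact (Nat.Prime 3) := ⟨Nat.prime_three⟩
  have k : ∀ m, m ≠ 0 → ¬ 3 ∣ m → 3 ^ (3 ^ 3 * m).factorization 3 = 27 := fun m h0 hm => by
    rw [Nat.factorization_mul (by norm_num) h0, Nat.Prime.factorization_pow Nat.prime_three]
    simp [Nat.factorization_eq_zero_of_not_dvd hm]
  rw [hP.card_eq, h.cardC]
  rcases h.card_zp with e | e <;> rw [e]
  · exact k 49280 (by norm_num) (by norm_num)
  · exact k 98560 (by norm_num) (by norm_num)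

theorem comm_mem {P : Subgroup G} (hP : IsSylowIn 3 P (centralizer ({x} : Set G))) {a b : G}
    (ha : a ∈ P) (hb : b ∈ P) : ⁅a, b⁆ ∈ zpowers x := by
  have : Fact (Nat.Prime 3) := ⟨Nat.prime_three⟩
  have hs := (hP.subgroupOf_top.map h.hom).card_eq
  rw [← MonoidHom.range_eq_map, h.range_hom, card_M22, show 443520 = 3 ^ 2 * 49280 by norm_num,
    Nat.factorization_mul (by norm_num) (by norm_num),
    Nat.Prime.factorization_pow Nat.prime_three] at hs
  simp only [Finsupp.coe_add, Pi.add_apply, Finsupp.single_eq_same,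
    Nat.factorization_eq_zero_of_not_dvd (by norm_num : ¬ 3 ∣ 49280), add_zero] at hs
  have hc := (IsPGroup.isMulCommutative_of_card_eq_prime_sq hs).is_comm.comm
    ⟨p a, ⟨a, hP.le ha⟩, ha, rfl⟩ ⟨p b, ⟨b, hP.le hb⟩, hb, rfl⟩
  replace hc : p a * p b = p b * p a := congrArg Subtype.val hc
  have hm : ⁅a, b⁆ ∈ P := by
    rw [commutatorElement_def]
    exact mul_mem (mul_mem (mul_mem ha hb) (inv_mem ha)) (inv_mem hb)
  obtain ⟨n, hn⟩ := hP.isPGroup ⟨_, hm⟩
  refine h.mem_zx ((h.p_eq_one _ (hP.le hm)).1 ?_) (congrArg Subtype.val hn)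
  rw [commutatorElement_def, h.p_mul _ (hP.le (mul_mem (mul_mem ha hb) (inv_mem ha))) _
    (hP.le (inv_mem hb)), h.p_conj (hP.le ha) (hP.le hb), h.p_inv (hP.le hb), hc]
  group

theorem comm_eq {P : Subgroup G} (hP : IsSylowIn 3 P (centralizer ({x} : Set G))) :
    ⁅P, P⁆ = zpowers x :=
  le_antisymm (commutator_le.2 fun _ ha _ hb => h.comm_mem hP ha hb)
    (zpowers_le.2 (h.mem_comm_of_sylow hP).2)

theorem sylow_top {P : Subgroup G} (hP : IsSylowIn 3 P (centralizer ({x} : Set G))) :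
    IsSylowIn 3 P ⊤ := by
  have : Fact (Nat.Prime 3) := ⟨Nat.prime_three⟩
  refine isSylowIn_of_maximal le_top hP.isPGroup fun U hU h1 _ => ?_
  by_contra hn
  have h2 := lt_inf_normalizer hU (lt_of_le_not_ge h1 hn)
  refine h2.not_ge (hP.eq_of_le (hU.to_inf_left) h2.le fun k hk => ?_).le
  have h3 : k * x * k⁻¹ ∈ zpowers x := by
    rw [← h.comm_eq hP]
    exact (mem_normalizer_iff.1 (normalizer_le_normalizer_commutator P P ⟨hk.2, hk.2⟩) x).1
      (h.mem_comm_of_sylow hP).2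
  rcases h.or_of_norm h3 with e | e
  · exact mC'.2 e
  · obtain ⟨n, hn⟩ := hU ⟨k, hk.1⟩
    replace hn : k ^ 3 ^ n = 1 := congrArg Subtype.val hn
    have h5 : k * k ∈ centralizer ({x} : Set G) := mC'.2 (sq_cent_of_or (Or.inr e))
    obtain ⟨m, hm⟩ : Odd (3 ^ n) := (by decide : Odd 3).pow
    have : k = ((k * k) ^ m)⁻¹ := by
      rw [← pow_two, ← pow_mul, eq_inv_iff_mul_eq_one, ← pow_succ', ← hm, hn]
    rw [this]; exact inv_mem (Subgroup.pow_mem _ h5 m)

theorem center_sylow {P : Subgroup G} (hP : IsSylowIn 3 P (centralizer ({x} : Set G))) {w : G}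
    (hw : w ∈ P) (hc : ∀ u ∈ P, u * w = w * u) : w ∈ zpowers x := by
  have : Fact (Nat.Prime 3) := ⟨Nat.prime_three⟩
  by_contra hn
  obtain ⟨hxP, hx⟩ := h.mem_comm_of_sylow hP
  have h1 : (zpowers x).subgroupOf P < center P :=
    lt_of_le_of_ne (fun a ha => mem_center_iff.2 fun u => Subtype.ext
      (h.ker_comm (mem_sup_left ha) (hP.le u.2))) fun e => hn (by
        have : (⟨w, hw⟩ : P) ∈ center P := mem_center_iff.2 fun u => Subtype.ext (hc u u.2)
        rwa [← e] at this)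
  have h2 := card_lt_of_lt h1
  rw [Nat.card_congr (subgroupOfEquivOfLe (zpowers_le.2 hxP)).toEquiv, Nat.card_zpowers,
    h.x3] at h2
  have h3 := card_mul_index (center P)
  rw [h.card_sylow hP] at h3
  have h4 : IsCyclic (P ⧸ center P) := by
    have h5 : (center P).index ∣ 3 ^ 3 := Dvd.intro_left _ h3
    obtain ⟨j, hj, e⟩ := (Nat.dvd_prime_pow Nat.prime_three).1 h5
    have : (center P).index ∣ 3 := by
      rw [e] at h3 ⊢
      interval_cases j <;> omega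
    exact isCyclic_of_card_dvd_prime (p := 3) this
  have h6 := commutative_of_cyclic_center_quotient (QuotientGroup.mk' (center P))
    (by rw [QuotientGroup.ker_mk'])
  have : ⁅P, P⁆ ≤ ⊥ := commutator_le.2 fun a ha b hb => mem_bot.2
    (commutatorElement_eq_one_iff_mul_comm.2 (congrArg Subtype.val (h6 ⟨a, ha⟩ ⟨b, hb⟩)))
  exact h.x_ne (mem_bot.1 (this hx))

theorem shift {y : G} (hy : y ∈ centralizer ({x} : Set G)) (h3 : y ^ 3 = 1) (hn : y ∉ zpowers x)
    {P : Subgroup G} (hP : IsSylowIn 3 P (centralizer ({x} : Set G))) (hyP : y ∈ P) :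
    ∃ u ∈ P, u * y * u⁻¹ = y * x := by
  obtain ⟨u, hu, e⟩ : ∃ u ∈ P, u * y ≠ y * u := by
    by_contra hc
    push Not at hc
    exact hn (h.center_sylow hP hyP hc)
  have c := mC.1 hy
  rcases mem_zpowers_three h.x3 (h.comm_mem hP hu hyP) with e' | e' | e'
  · exact absurd (commutatorElement_eq_one_iff_mul_comm.1 e') e
  · exact ⟨u, hu, by rw [c, ← e', commutatorElement_def]; group⟩
  · have e1 : u * y * u⁻¹ = x⁻¹ * y := by rw [← e', commutatorElement_def]; group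
    have e2 : u * x⁻¹ * u⁻¹ = x⁻¹ := by
      rw [(show Commute u x from mC.1 (hP.le hu)).inv_right.eq]; group
    refine ⟨u * u, mul_mem hu hu, ?_⟩
    calc u * u * y * (u * u)⁻¹ = u * (u * y * u⁻¹) * u⁻¹ := by group
      _ = (u * x⁻¹ * u⁻¹) * (u * y * u⁻¹) := by
        conv_lhs => rw [e1]
        group
      _ = (x ^ 3)⁻¹ * (x * y) := by rw [e1, e2]; group
      _ = _ := by rw [h.cube, c]; simp

theorem shift' {y : G} (hy : y ∈ centralizer ({x} : Set G)) (h3 : y ^ 3 = 1) (hn : y ∉ zpowers x)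
    {w : G} (hw : w ∈ zpowers x) : ∃ u ∈ centralizer ({x} : Set G), u * y * u⁻¹ = y * w := by
  have : Fact (Nat.Prime 3) := ⟨Nat.prime_three⟩
  obtain ⟨P, hP, hyP⟩ := exists_isSylowIn_ge (p := 3) (Q := zpowers y) (IsPGroup.of_card (n := 1)
    (by rw [Nat.card_zpowers, ord3 h3 fun e => hn (e ▸ one_mem _), pow_one])) (zpowers_le.2 hy)
  obtain ⟨u, hu, e⟩ := h.shift hy h3 hn hP (hyP (mem_zpowers y))
  replace hu := hP.le hu
  have e2 := mC'.1 hu
  rcases mem_zpowers_three h.x3 hw with rfl | rfl | rfl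
  · exact ⟨1, one_mem _, by simp⟩
  · exact ⟨u, hu, e⟩
  · refine ⟨u * u, mul_mem hu hu, ?_⟩
    calc u * u * y * (u * u)⁻¹ = u * (u * y * u⁻¹) * u⁻¹ := by group
      _ = (u * y * u⁻¹) * (u * x * u⁻¹) := by
        conv_lhs => rw [e]
        group
      _ = y * x⁻¹ * x ^ 3 := by rw [e, e2]; simp [pow_succ, mul_assoc]
      _ = _ := by rw [h.cube, mul_one]

omit [Finite G] in
theorem ord_p {y : G} (hy : y ∈ centralizer ({x} : Set G)) (h3 : y ^ 3 = 1) (hn : y ∉ zpowers x) :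
    orderOf (p y) = 3 :=
  ord3 (by rw [← h.p_pow hy, h3, h.p_one]) fun e =>
    hn (h.mem_zx (n := 1) ((h.p_eq_one y hy).1 e) (by rw [pow_one, h3]))

theorem cls {y c : G} (hy : y ∈ centralizer ({x} : Set G)) (h3 : y ^ 3 = 1) (hn : y ∉ zpowers x)
    (hc : c ∈ centralizer ({x} : Set G)) (hc3 : c ^ 3 = 1) (hcn : c ∉ zpowers x) :
    ∃ u ∈ centralizer ({x} : Set G), u * y * u⁻¹ = c := by
  obtain ⟨σ, hσ, e⟩ := conj22_three (h.p_mem c hc) (h.ord_p hc hc3 hcn) (h.p_mem y hy)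
    (h.ord_p hy h3 hn)
  obtain ⟨k, hk, rfl⟩ := h.p_surj σ hσ
  have h1 : k * c * k⁻¹ ∈ centralizer ({x} : Set G) := mul_mem (mul_mem hk hc) (inv_mem hk)
  have h2 : y⁻¹ * (k * c * k⁻¹) ∈ zpowers x ⊔ zpowers z := by
    refine (h.p_eq_one _ (mul_mem (inv_mem hy) h1)).1 ?_
    rw [h.p_mul _ (inv_mem hy) _ h1, h.p_conj hk hc, e, h.p_inv hy, inv_mul_cancel]
  have h4 : y⁻¹ * (k * c * k⁻¹) ∈ zpowers x := by
    refine h.mem_zx (n := 1) h2 ?_
    have c1 : Commute y (y⁻¹ * (k * c * k⁻¹)) := h.ker_comm h2 hy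
    have := c1.mul_pow 3
    rw [mul_inv_cancel_left, conj_pow, hc3, h3] at this
    rw [pow_one]; simpa using this.symm
  obtain ⟨u, hu, e'⟩ := h.shift' hy h3 hn h4
  refine ⟨k⁻¹ * u, mul_mem (inv_mem hk) hu, ?_⟩
  calc k⁻¹ * u * y * (k⁻¹ * u)⁻¹ = k⁻¹ * (u * y * u⁻¹) * k := by group
    _ = c := by rw [e']; group

end Sx

/-- `x` is fused to the element `y = g x g⁻¹` of its centralizer. -/
structure Fx (x z y g : G) (p : G → Perm GolayPt) : Prop extends Sx x z p where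
  eq_y : g * x * g⁻¹ = y
  yC : y ∈ centralizer ({x} : Set G)
  y_not : y ∉ zpowers x

theorem exists_sx [Finite G] (hx : orderOf x = 3)
    (hperf : ⁅(⊤ : Subgroup ↥(centralizer ({x} : Set G))),
      (⊤ : Subgroup ↥(centralizer ({x} : Set G)))⁆ = ⊤)
    (hZc : Nat.card ↥(center ↥(centralizer ({x} : Set G))) = 3)
    (e : ↥(centralizer ({x} : Set G)) ⧸ center ↥(centralizer ({x} : Set G)) ≃* ↥Spor.M22) :
    ∃ p, Sx x 1 p := by
  classical
  set C := centralizer ({x} : Set G) with hC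
  have hxz : (⟨x, xC⟩ : C) ∈ center C := mem_center_iff.2 fun c => Subtype.ext (mC.1 c.2)
  let φ : C →* Perm GolayPt := Spor.M22.subtype.comp (e.toMonoidHom.comp (QuotientGroup.mk' _))
  have hφ : ∀ c, φ c = 1 ↔ c ∈ center C := fun c => by
    rw [← QuotientGroup.eq_one_iff, ← map_eq_one_iff e e.injective]
    exact OneMemClass.coe_eq_one
  have heq : zpowers x = (center C).map C.subtype :=
    eq_of_le_of_card_ge (zpowers_le.2 ⟨_, hxz, rfl⟩)
      (by rw [card_map_of_injective C.subtype_injective, hZc, Nat.card_zpowers, hx])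
  refine ⟨fun g => if hg : g ∈ C then φ ⟨g, hg⟩ else 1, hx, one_mul 1, one_mem _,
    fun c _ => mC.2 (by simp), fun g hg => ?_,
    fun a ha b hb => ?_, fun c hc => ?_, fun σ hσ => ?_, fun c hc => ?_⟩
  · rw [dif_pos hg]; exact SetLike.coe_mem _
  · rw [dif_pos ha, dif_pos hb, dif_pos (mul_mem ha hb), ← map_mul]; rfl
  · rw [dif_pos hc, hφ, zpowers_one_eq_bot, sup_bot_eq, heq]
    exact ⟨fun a => ⟨_, a, rfl⟩, fun ⟨a, ha, e⟩ => by rwa [show (⟨c, hc⟩ : C) = a from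
      Subtype.ext e.symm]⟩
  · obtain ⟨c, hc⟩ := QuotientGroup.mk'_surjective _ (e.symm ⟨σ, hσ⟩)
    refine ⟨c, c.2, ?_⟩
    rw [dif_pos c.2]
    show ((e (QuotientGroup.mk' _ c) : Spor.M22) : Perm GolayPt) = σ
    rw [hc, e.apply_symm_apply]
  · rw [← Subgroup.map_subtype_commutator]
    exact ⟨⟨c, hc⟩, by rw [commutator_def, hperf]; exact mem_top _, rfl⟩

theorem Sx.exists_fx [Finite G] (h : Sx x z p) (S : Sylow 3 G) (g : G)
    (hng : ((center ↥(S : Subgroup G)).map (S : Subgroup G).subtype).map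
      (MulAut.conj g).toMonoidHom ≤ (S : Subgroup G))
    (hne : ((center ↥(S : Subgroup G)).map (S : Subgroup G).subtype).map
      (MulAut.conj g).toMonoidHom ≠ (center ↥(S : Subgroup G)).map (S : Subgroup G).subtype) :
    ∃ y g, Fx x z y g p := by
  have : Fact (Nat.Prime 3) := ⟨Nat.prime_three⟩
  obtain ⟨P, hP⟩ := exists_isSylowIn (p := 3) (centralizer ({x} : Set G))
  obtain ⟨k, -, e⟩ := (isSylowIn_top S).exists_cj_eq (h.sylow_top hP)
  have hm : ∀ a, a ∈ (S : Subgroup G) ↔ k⁻¹ * a * k ∈ P := fun a => by rw [← e, mem_cj]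
  have hZ : (center ↥(S : Subgroup G)).map (S : Subgroup G).subtype = zpowers (k * x * k⁻¹) := by
    ext a
    rw [conj_zp]
    constructor
    · rintro ⟨a, ha, rfl⟩
      refine h.center_sylow hP ((hm _).1 a.2) fun u hu => ?_
      have := congrArg Subtype.val (mem_center_iff.1 ha
        ⟨k * u * k⁻¹, (hm _).2 (by simpa [mul_assoc] using hu)⟩)
      simp only [coe_mul] at this
      show u * (k⁻¹ * (a : G) * k) = k⁻¹ * (a : G) * k * u
      calc u * (k⁻¹ * (a : G) * k) = k⁻¹ * (k * u * k⁻¹ * a) * k := by group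
        _ = _ := by rw [this]; group
    · intro ha
      refine ⟨⟨a, (hm a).2 (zpowers_le.2 (h.mem_comm_of_sylow hP).1 ha)⟩,
        mem_center_iff.2 fun u => Subtype.ext ?_, rfl⟩
      have := h.ker_comm (mem_sup_left ha) (hP.le ((hm _).1 u.2))
      show (u : G) * a = a * u
      calc (u : G) * a = k * (k⁻¹ * u * k * (k⁻¹ * a * k)) * k⁻¹ := by group
        _ = _ := by rw [this]; group
  rw [hZ, MonoidHom.map_zpowers] at hng hne
  have h1 := (hm _).1 (hng (mem_zpowers _))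
  have e1 : k⁻¹ * (MulAut.conj g).toMonoidHom (k * x * k⁻¹) * k =
      k⁻¹ * g * k * x * (k⁻¹ * g * k)⁻¹ := by simp [mul_assoc]
  rw [e1] at h1
  refine ⟨_, k⁻¹ * g * k, h, rfl, hP.le h1, fun hc => hne ?_⟩
  refine eq_of_le_of_card_ge (zpowers_le.2 (conj_zp.2 (e1 ▸ hc))) ?_
  rw [Nat.card_zpowers, Nat.card_zpowers]
  exact ((MulAut.conj g).orderOf_eq _).ge

namespace Fx

variable {y g : G} (h : Fx x z y g p)
include h

theorem sy : Sx y (g * z * g⁻¹) (fun a => p (g⁻¹ * a * g)) := h.eq_y ▸ h.toSx.conj g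

theorem y3 : orderOf y = 3 := h.sy.x3

theorem ycube : y ^ 3 = 1 := h.sy.cube

theorem xy : Commute x y := (mC.1 h.yC).symm

theorem x_mem : x ∈ centralizer ({y} : Set G) := mC.2 h.xy

variable [Finite G]

theorem exists_inv : ∃ k : G, k * x * k⁻¹ = x⁻¹ := by
  obtain ⟨u, -, e⟩ := h.cls h.yC h.ycube h.y_not (inv_mem h.yC) (by rw [inv_pow, h.ycube, inv_one])
    (fun e => h.y_not (inv_mem_iff.1 e))
  refine ⟨g⁻¹ * u * g, ?_⟩
  calc g⁻¹ * u * g * x * (g⁻¹ * u * g)⁻¹ = g⁻¹ * (u * (g * x * g⁻¹) * u⁻¹) * g := by group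
    _ = _ := by rw [h.eq_y, e, ← h.eq_y]; group

theorem conj3 {u : G} (o : orderOf u = 3) : ∃ k : G, k * x * k⁻¹ = u := by
  have : Fact (Nat.Prime 3) := ⟨Nat.prime_three⟩
  obtain ⟨P, hP⟩ := exists_isSylowIn (p := 3) (centralizer ({x} : Set G))
  obtain ⟨d, -, e⟩ := (h.sylow_top hP).exists_cj_le (Q := zpowers u) (IsPGroup.of_card (n := 1)
    (by rw [Nat.card_zpowers, o, pow_one])) le_top
  have h1 : d * u * d⁻¹ ∈ centralizer ({x} : Set G) := hP.le (e (mem_cj.2 (by simp [mul_assoc])))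
  have o1 : orderOf (d * u * d⁻¹) = 3 := ((MulAut.conj d).orderOf_eq u).trans o
  suffices ∃ k : G, k * x * k⁻¹ = d * u * d⁻¹ by
    obtain ⟨k, e⟩ := this
    exact ⟨d⁻¹ * k, by rw [mul_assoc d⁻¹, mul_inv_rev, ← mul_assoc, mul_assoc d⁻¹, e]; group⟩
  by_cases h2 : d * u * d⁻¹ ∈ zpowers x
  · rcases mem_zpowers_three h.x3 h2 with e | e | e
    · rw [e, orderOf_one] at o1; omega
    · exact ⟨1, by rw [e]; simp⟩
    · rw [e]; exact h.exists_inv
  · obtain ⟨c, -, e⟩ := h.cls h.yC h.ycube h.y_not h1 (o1 ▸ pow_orderOf_eq_one _) h2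
    exact ⟨c * g, by rw [← e, ← h.eq_y]; group⟩

theorem two_le3 {u : G} (o : orderOf u = 3) {K : Subgroup G} (hK : K ≤ centralizer ({u} : Set G))
    (h2 : ∀ a ∈ K, a * a = 1) : Nat.card K ≤ 16 * Nat.card (zpowers z) := by
  obtain ⟨k, rfl⟩ := h.conj3 o
  have := (h.toSx.conj k).two_le hK h2
  rwa [Nat.card_zpowers, show orderOf (k * z * k⁻¹) = orderOf z from
    (MulAut.conj k).orderOf_eq z, ← Nat.card_zpowers] at this

end Fx

end Cfsg.Lib.J4T
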