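import Cfsg.Agent.J4T.TA
import Cfsg.Agent.SporChar.J4CM

/-! Facts on the hexad stabiliser of `M₂₂`, checked on the permutation model. -/

set_option autoImplicit false

namespace Cfsg.Lib.J4T.Md

open Subgroup Cfsg.Lib.Spor Cfsg.Lib.SporChar Cfsg.Lib.SporChar.J4 Cfsg.Lib.Spor.MP Equiv MulAction
open scoped Pointwise

/-- Codes of the model elements. -/
def pc : ℕ := 967893722055968579688671553496583232
/-- Codes of the model elements. -/
def pt : ℕ := 981737719767249052369456315699891232
/-- Codes of the model elements. -/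
def pw0 : ℕ := 981818691054096003685363657089320992
/-- Codes of the model elements. -/
def pw1 : ℕ := 966182099583441531322624363496310816
/-- Codes of the model elements. -/
def pal : ℕ := 979283409119483249701587601985157152
/-- Codes of the model elements. -/
def pu : ℕ := 963721886883755259286232606933354528

/-- An element of order three without fixed points on the hexad. -/
noncomputable def c3 : Perm GolayPt := toPerm pc
/-- An involution inverting `c3`. -/
noncomputable def ta : Perm GolayPt := toPerm pt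
/-- An involution of `E0` centralising `c3`. -/
noncomputable def w0 : Perm GolayPt := toPerm pw0
/-- An involution of `E0` centralising `c3`. -/
noncomputable def w1 : Perm GolayPt := toPerm pw1
/-- An involution of `O₂(C(w0))`. -/
noncomputable def al : Perm GolayPt := toPerm pal
/-- An involution of `[E0, c3]`. -/
noncomputable def u0 : Perm GolayPt := toPerm pu

theorem rc : Rep c3 pc := rep_toPerm (by decide +kernel)
theorem rt : Rep ta pt := rep_toPerm (by decide +kernel)
theorem rw0 : Rep w0 pw0 := rep_toPerm (by decide +kernel)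
theorem rw1 : Rep w1 pw1 := rep_toPerm (by decide +kernel)
theorem ral : Rep al pal := rep_toPerm (by decide +kernel)
theorem ru : Rep u0 pu := rep_toPerm (by decide +kernel)

/-- Test for fixing the octad pointwise. -/
def inE (p : ℕ) : Bool := [0, 1, 2, 3, 5, 14, 17, 23].all fun b => Nat.beq (ap p b) b

theorem memE {g : Perm GolayPt} {p : ℕ} (h : Rep g p) (hg : g ∈ M24) : g ∈ E0 ↔ inE p = true := by
  have k : ∀ a, a ∈ o0 ↔ ptIdx a ∈ [0, 1, 2, 3, 5, 14, 17, 23] := fun a => by
    rw [o0, mem_maskSet]; revert a; decide +kernel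
  rw [mem_E0, inE, List.all_eq_true]
  constructor
  · intro h1 b hb
    have hb' : b < 24 := by revert b; decide
    rw [Nat.beq_eq, ← h.apply_idxPt_eq_iff hb' hb']
    exact h1.2 _ ((k _).2 (by rwa [ptIdx_idxPt hb']))
  · refine fun h1 => ⟨hg, fun a ha => ?_⟩
    rw [h.apply, Nat.eq_of_beq_eq_true (h1 _ ((k a).1 ha)), idxPt_ptIdx]

theorem c3_mem : c3 ∈ Spor.M22 := (inSub_M22 (t := pc) (by decide +kernel)).2
theorem ta_mem : ta ∈ Spor.M22 := (inSub_M22 (t := pt) (by decide +kernel)).2
theorem al_mem : al ∈ Spor.M22 := (inSub_M22 (t := pal) (by decide +kernel)).2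
theorem w0_mem : w0 ∈ E0 := (memE rw0 (toPerm_mem_M24 (by decide +kernel))).2 (by decide +kernel)
theorem w1_mem : w1 ∈ E0 := (memE rw1 (toPerm_mem_M24 (by decide +kernel))).2 (by decide +kernel)
theorem u0_mem : u0 ∈ E0 := (memE ru (toPerm_mem_M24 (by decide +kernel))).2 (by decide +kernel)
theorem c3_o : c3 • o0 = o0 := (rc.smul_maskSet_eq_iff _ (by norm_num)).2 (by decide +kernel)
theorem ta_o : ta • o0 = o0 := (rt.smul_maskSet_eq_iff _ (by norm_num)).2 (by decide +kernel)
theorem al_o : al • o0 = o0 := (ral.smul_maskSet_eq_iff _ (by norm_num)).2 (by decide +kernel)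
theorem ord_c3 : orderOf c3 = 3 := rc.orderOf_eq (by decide +kernel)
theorem ord_w0 : orderOf w0 = 2 := rw0.orderOf_eq (by decide +kernel)
theorem ord_u0 : orderOf u0 = 2 := ru.orderOf_eq (by decide +kernel)
theorem w0_ne : w0 ≠ 1 := rw0.ne_of_peq rep_one (by decide +kernel)
theorem w1_ne : w1 ≠ 1 := rw1.ne_of_peq rep_one (by decide +kernel)
theorem u0_ne : u0 ≠ 1 := ru.ne_of_peq rep_one (by decide +kernel)
theorem w1_ne_w0 : w1 ≠ w0 := rw1.ne_of_peq rw0 (by decide +kernel)
theorem w0_c3 : w0 * c3 = c3 * w0 := (rw0.mul rc).eq_of_peq (rc.mul rw0) (by decide +kernel)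
theorem w1_c3 : w1 * c3 = c3 * w1 := (rw1.mul rc).eq_of_peq (rc.mul rw1) (by decide +kernel)
theorem ta_ta : ta * ta = 1 := (rt.mul rt).eq_of_peq rep_one (by decide +kernel)
theorem ta_c3 : ta * c3 * ta⁻¹ = c3⁻¹ := (rt.conj rc).eq_of_peq rc.inv (by decide +kernel)
theorem ta_w1 : ta * w1 ≠ w1 * ta := (rt.mul rw1).ne_of_peq (rw1.mul rt) (by decide +kernel)
theorem ta_w2 : ta * (w0 * w1) ≠ w0 * w1 * ta :=
  (rt.mul (rw0.mul rw1)).ne_of_peq ((rw0.mul rw1).mul rt) (by decide +kernel)
theorem al_al : al * al = 1 := (ral.mul ral).eq_of_peq rep_one (by decide +kernel)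
theorem al_w0 : al * w0 * al⁻¹ = w0 := (ral.conj rw0).eq_of_peq rw0 (by decide +kernel)
theorem al_w1 : al * w1 * al⁻¹ * w1 * u0 = w0 :=
  (((ral.conj rw1).mul rw1).mul ru).eq_of_peq rw0 (by decide +kernel)
theorem u0_nu : u0 * (c3 * u0 * c3⁻¹) * (c3 * (c3 * u0 * c3⁻¹) * c3⁻¹) = 1 :=
  ((ru.mul (rc.conj ru)).mul (rc.conj (rc.conj ru))).eq_of_peq rep_one (by decide +kernel)

theorem m24 {g : Perm GolayPt} (h : g ∈ Spor.M22) : g ∈ M24 := M22_le h

theorem cj22 {g a : Perm GolayPt} (h : g ∈ Spor.M22) (h' : a ∈ Spor.M22) :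
    g * a * g⁻¹ ∈ Spor.M22 := mul_mem (mul_mem h h') (inv_mem h)

theorem al_comm : (al * (c3 * al * c3⁻¹))⁻¹ * (c3 * al * c3⁻¹ * al) ∈ E0 :=
  (memE ((ral.mul (rc.conj ral)).inv.mul ((rc.conj ral).mul ral)) (m24 (mul_mem
    (inv_mem (mul_mem al_mem (cj22 c3_mem al_mem))) (mul_mem (cj22 c3_mem al_mem) al_mem)))).2
    (by decide +kernel)

theorem al_cyc : (al * (c3 * al * c3⁻¹))⁻¹ * (c3 * (c3 * al * c3⁻¹) * c3⁻¹) ∈ E0 :=
  (memE ((ral.mul (rc.conj ral)).inv.mul (rc.conj (rc.conj ral))) (m24 (mul_mem
    (inv_mem (mul_mem al_mem (cj22 c3_mem al_mem))) (cj22 c3_mem (cj22 c3_mem al_mem))))).2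
    (by decide +kernel)

theorem al_ta : al⁻¹ * (ta * al * ta⁻¹) ∈ E0 :=
  (memE (ral.inv.mul (rt.conj ral)) (m24 (mul_mem (inv_mem al_mem) (cj22 ta_mem al_mem)))).2
    (by decide +kernel)

/-- Test for commuting. -/
def cm (p q : ℕ) : Bool := peq (pmul p q) (pmul q p)

theorem cm_iff {g k : Perm GolayPt} {p q : ℕ} (h : Rep g p) (h' : Rep k q) :
    g * k = k * g ↔ cm p q = true := (h.mul h').eq_iff (h'.mul h)

theorem chain_cent {p : ℕ} (hp : isPerm p = true) {l : List (ℕ × List ℕ)}
    (hc : Nat.card ↥(Spor.M22 ⊓ centralizer {toPerm p}) ≤ csize l)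
    (h : preChk (fun t => isFix [23, 0] t && cm t p) l [] = true) :
    Chain l (Spor.M22 ⊓ centralizer {toPerm p}) :=
  (preChain_of_preChk (fun t ht => by
    rw [Bool.and_eq_true] at ht
    have h1 := inSub_M22 ht.1
    exact ⟨h1.1, h1.2, mC.2 ((cm_iff h1.rep (rep_toPerm hp)).2 ht.2)⟩) h).chain hc

/-- Chain of the centraliser of `w0`. -/
def cW : List (ℕ × List ℕ) :=
  [(4, [984818244535754528103549039458486304, 965128854020860192151391391390468128, 963721886883755259286232606933354528, 979121071158219704299181131031480352, 968708902336673183175954409307867168, 967812279691448225500382947153381408, 971592882964418941354553515258775584, 970499966350631336865513127433832480, 976448692869377735270425038196672544, 981818691054096003685363657089320992, 972512676110088067912772961567868960, 966182099583441531322624363496310816, 983548720921252936276249910206105632, 975346028712660580592452217730074656, 980224387687010295957922729495201824, 961365507626256404119956257276790816]),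
   (6, [984818244535754528103549039458486304, 964086604512079034595220789576373312, 963559469755314260034783751321073760, 979607832270761761842727174327682112, 981737719767249052369456315699891232, 979283409119483249701587601985157152, 979567151129918392749085125943694432, 963640518972357266310373335248618528]),
   (1, [984818244535754528103549039458486304, 967893722055968579688671553496583232, 970215741404391251045574791881884768])]

/-- Chain of the centraliser of `c3`. -/
def cC : List (ℕ × List ℕ) :=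
  [(7, [984818244535754528103549039458486304, 981818691054096003685363657089320992, 980874226864350081512017426024335392, 976531636853126291160407323722221600, 983141956895601025126892051911247904, 972606645568131968584696805283956768, 971863989228759034920585190470420512, 968918221426309407724683958819063840, 967365292857695660364575527991871520, 966182099583441531322624363496310816, 970452748381697609285226999098476576, 965128854020860192151391391390468128]),
   (1, [984818244535754528103549039458486304, 966241839990332354729067874495794240, 982003659878006778933775353285510240])]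

/-- Chain of the centraliser of `u0`. -/
def cU : List (ℕ × List ℕ) :=
  [(4, [984818244535754528103549039458486304, 965128854020860192151391391390468128, 963721886883755259286232606933354528, 979121071158219704299181131031480352, 968708902336673183175954409307867168, 967812279691448225500382947153381408, 971592882964418941354553515258775584, 970499966350631336865513127433832480, 976448692869377735270425038196672544, 981818691054096003685363657089320992, 972512676110088067912772961567868960, 966182099583441531322624363496310816, 983548720921252936276249910206105632, 975346028712660580592452217730074656, 980224387687010295957922729495201824, 961365507626256404119956257276790816]),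
   (9, [984818244535754528103549039458486304, 984612649355406094121217942427387040, 979283409119483249701587601985157152, 982122906848457365617158262743972000, 963640518972357266310373335248618528, 963555650714033946967463564885300288, 966241839990332354729067874495794240, 981737719767249052369456315699891232]),
   (1, [984818244535754528103549039458486304, 975510801707571461169082653730846784, 979245410640910864736416052095256000])]

theorem chW : Chain cW (Spor.M22 ⊓ centralizer {w0}) := chain_cent (by decide +kernel)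
  (cent22_two (E0_le_M22 w0_mem) ord_w0).le (by decide +kernel)

theorem chC : Chain cC (Spor.M22 ⊓ centralizer {c3}) := chain_cent (by decide +kernel)
  (cent22_three c3_mem ord_c3).le (by decide +kernel)

theorem chU : Chain cU (Spor.M22 ⊓ centralizer {u0}) := chain_cent (by decide +kernel)
  (cent22_two (E0_le_M22 u0_mem) ord_u0).le (by decide +kernel)

theorem chE : Chain Orb.cE E0 := E0_eq ▸ Orb.chain_cE

variable {σ : Perm GolayPt}

/-- `σ` lies in `E0 ⟨c3⟩`. -/
def Tri (σ : Perm GolayPt) : Prop := σ ∈ E0 ∨ σ * c3 ∈ E0 ∨ σ * c3⁻¹ ∈ E0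

/-- Test for `Tri`. -/
def tri (p : ℕ) : Bool := inE p || inE (pmul p pc) || inE (pmul p (pinv pc))

theorem tri_of (h : σ ∈ Spor.M22) (e : tri (pack σ) = true) : Tri σ := by
  have r := rep_pack σ
  simp only [tri, Bool.or_eq_true] at e
  rcases e with (e | e) | e
  · exact .inl ((memE r (m24 h)).2 e)
  · exact .inr (.inl ((memE (r.mul rc) (m24 (mul_mem h c3_mem))).2 e))
  · exact .inr (.inr ((memE (r.mul rc.inv) (m24 (mul_mem h (inv_mem c3_mem)))).2 e))

theorem mem_of_sq (h : σ ∈ Spor.M22) (hc : σ * c3 = c3 * σ) (h2 : σ * σ = 1) : σ ∈ E0 := by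
  have r := rep_pack σ
  have e := chC.forall (leaf := fun c => !peq (pmul c c) pid || inE c) (by decide +kernel) σ
    ⟨h, mC.2 hc⟩
  rw [((r.mul r).eq_iff rep_one).1 h2] at e
  exact (memE r (m24 h)).2 e

theorem W_cases (h : σ ∈ E0) (hc : σ * c3 = c3 * σ) : σ = 1 ∨ σ = w0 ∨ σ = w1 ∨ σ = w0 * w1 := by
  have r := rep_pack σ
  have e := chE.forall (leaf := fun c => !cm c pc || (peq c pid || peq c pw0 || peq c pw1 ||
    peq c (pmul pw0 pw1))) (by decide +kernel) σ h
  rw [(cm_iff r rc).1 hc] at e
  simp only [Bool.not_true, Bool.false_or, Bool.or_eq_true] at e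
  rcases e with ((e | e) | e) | e
  · exact .inl (r.eq_of_peq rep_one e)
  · exact .inr (.inl (r.eq_of_peq rw0 e))
  · exact .inr (.inr (.inl (r.eq_of_peq rw1 e)))
  · exact .inr (.inr (.inr (r.eq_of_peq (rw0.mul rw1) e)))

theorem U_cases (h : σ ∈ E0) (hc : σ * (c3 * σ * c3⁻¹) * (c3 * (c3 * σ * c3⁻¹) * c3⁻¹) = 1) :
    σ = 1 ∨ σ = u0 ∨ σ = c3 * u0 * c3⁻¹ ∨ σ = c3 * (c3 * u0 * c3⁻¹) * c3⁻¹ := by
  have r := rep_pack σ
  have e := chE.forall (leaf := fun c => !peq (pmul (pmul c (pconj pc c)) (pconj pc (pconj pc c)))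
    pid || (peq c pid || peq c pu || peq c (pconj pc pu) || peq c (pconj pc (pconj pc pu))))
    (by decide +kernel) σ h
  rw [(((r.mul (rc.conj r)).mul (rc.conj (rc.conj r))).eq_iff rep_one).1 hc] at e
  simp only [Bool.not_true, Bool.false_or, Bool.or_eq_true] at e
  rcases e with ((e | e) | e) | e
  · exact .inl (r.eq_of_peq rep_one e)
  · exact .inr (.inl (r.eq_of_peq ru e))
  · exact .inr (.inr (.inl (r.eq_of_peq (rc.conj ru) e)))
  · exact .inr (.inr (.inr (r.eq_of_peq (rc.conj (rc.conj ru)) e)))

theorem tri_of_fix (h : σ ∈ Spor.M22) (hc : σ * c3 = c3 * σ) {w : Perm GolayPt} (hw : w ∈ E0)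
    (hw' : w * c3 = c3 * w) (h1 : w ≠ 1) (h2 : σ * w = w * σ) : Tri σ := by
  have r := rep_pack σ
  have e := chC.forall (leaf := fun c => !(cm c pw0 || cm c pw1 || cm c (pmul pw0 pw1)) || tri c)
    (by decide +kernel) σ ⟨h, mC.2 hc⟩
  refine tri_of h ?_
  rcases W_cases hw hw' with rfl | rfl | rfl | rfl
  · exact absurd rfl h1
  · simpa [(cm_iff r rw0).1 h2] using e
  · simpa [(cm_iff r rw1).1 h2] using e
  · simpa [(cm_iff r (rw0.mul rw1)).1 h2] using e

theorem tri_of_W (h : σ ∈ Spor.M22) (h0 : σ * w0 = w0 * σ) (h1 : σ * w1 = w1 * σ) : Tri σ := by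
  have e := chW.forall (leaf := fun c => !cm c pw1 || tri c) (by decide +kernel) σ ⟨h, mC.2 h0⟩
  rw [(cm_iff (rep_pack σ) rw1).1 h1] at e
  exact tri_of h e

theorem Tri.mem (h : Tri σ) (h2 : σ * σ = 1 ∨ σ * u0 = u0 * σ) : σ ∈ E0 := by
  have k : ∀ {c : Perm GolayPt} {q : ℕ}, Rep c q → σ * c ∈ E0 →
      srch (fun _ _ _ _ => false) (fun e => force (pmul e (pinv q)) fun s =>
        !peq (pmul s s) pid && !cm s pu) Orb.cE [] pid = true → False := by
    intro c q r h1 h3
    have e := chE.forall h3 _ h1
    have r' : Rep σ (pmul (pack (σ * c)) (pinv q)) := by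
      simpa using (rep_pack (σ * c)).mul r.inv
    simp only [force_eq, Bool.and_eq_true, Bool.not_eq_true'] at e
    rcases h2 with h2 | h2
    · exact (r'.mul r').ne_of_peq rep_one e.1 h2
    · rw [(cm_iff r' ru).1 h2] at e; exact absurd e.2 (by decide)
  rcases h with h | h | h
  · exact h
  · exact (k rc h (by decide +kernel)).elim
  · exact (k rc.inv h (by decide +kernel)).elim

theorem pow8 {G : Type*} [Group G] {g : G} {n : ℕ} (h : g ^ 2 ^ n = 1) (h' : g ^ 24 = 1) :
    g ^ 8 = 1 := by
  have h1 := Nat.dvd_gcd (orderOf_dvd_of_pow_eq_one h) (orderOf_dvd_of_pow_eq_one h')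
  rw [show 24 = 8 * 3 from rfl, Nat.Coprime.gcd_mul_right_cancel_right _ (cop23 n).symm] at h1
  exact orderOf_dvd_iff_pow_eq_one.1 (h1.trans (Nat.gcd_dvd_right _ _))

theorem core_cases (h : σ ∈ Spor.M22) (h0 : σ * w0 = w0 * σ) {n m : ℕ} (h1 : σ ^ 2 ^ n = 1)
    (h2 : (σ * (c3 * σ * c3⁻¹)) ^ 2 ^ m = 1) : σ ∈ E0 ∨ al⁻¹ * σ ∈ E0 ∨
      (c3 * al * c3⁻¹)⁻¹ * σ ∈ E0 ∨ (al * (c3 * al * c3⁻¹))⁻¹ * σ ∈ E0 := by
  have r := rep_pack σ
  have e := chW.forall (leaf := fun c => inE c || inE (pmul (pinv pal) c) ||
    inE (pmul (pinv (pconj pc pal)) c) || inE (pmul (pinv (pmul pal (pconj pc pal))) c) ||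
    (force (ppow c 8) fun d => !Nat.beq d pid && Nat.beq (ppow d 3) pid) ||
    (force (ppow (pmul c (pconj pc c)) 8) fun d => !Nat.beq d pid && Nat.beq (ppow d 3) pid))
    (by decide +kernel) σ ⟨h, mC.2 h0⟩
  have k : ∀ {g : Perm GolayPt} {q n : ℕ}, Rep g q → g ^ 2 ^ n = 1 →
      (!Nat.beq (ppow q 8) pid && Nat.beq (ppow (ppow q 8) 3) pid) = true → False := by
    intro g q n r h1 h2
    simp only [Bool.and_eq_true, Bool.not_eq_true', Nat.beq_eq] at h2
    have := (r.pow_eq_one_iff 8).1 (pow8 h1 (by
      rw [show 24 = 8 * 3 from rfl, pow_mul]; exact ((r.pow 8).pow_eq_one_iff 3).2 h2.2))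
    rw [this] at h2
    exact absurd h2.1 (by decide)
  have m1 := cj22 c3_mem al_mem
  simp only [force_eq, Bool.or_eq_true] at e
  rcases e with ((((e | e) | e) | e) | e) | e
  · exact .inl ((memE r (m24 h)).2 e)
  · exact .inr (.inl ((memE (ral.inv.mul r) (m24 (mul_mem (inv_mem al_mem) h))).2 e))
  · exact .inr (.inr (.inl ((memE ((rc.conj ral).inv.mul r) (m24 (mul_mem (inv_mem m1) h))).2 e)))
  · exact .inr (.inr (.inr ((memE ((ral.mul (rc.conj ral)).inv.mul r)
      (m24 (mul_mem (inv_mem (mul_mem al_mem m1)) h))).2 e)))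
  · exact (k r h1 e).elim
  · exact (k (r.mul (rc.conj r)) h2 e).elim

theorem keep_W (h : σ ∈ Spor.M22) (h0 : σ * u0 = u0 * σ)
    (h1 : σ * (c3 * u0 * c3⁻¹) = c3 * u0 * c3⁻¹ * σ) {w : Perm GolayPt} (hw : w ∈ E0)
    (hw' : w * c3 = c3 * w) : σ * w * σ⁻¹ * c3 = c3 * (σ * w * σ⁻¹) := by
  have r := rep_pack σ
  have e := chU.forall (leaf := fun c => !cm c (pconj pc pu) || (cm (pconj c pw0) pc &&
    cm (pconj c pw1) pc)) (by decide +kernel) σ ⟨h, mC.2 h0⟩
  rw [(cm_iff r (rc.conj ru)).1 h1] at e
  simp only [Bool.not_true, Bool.false_or, Bool.and_eq_true] at e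
  have e0 : Commute (σ * w0 * σ⁻¹) c3 := (cm_iff (r.conj rw0) rc).2 e.1
  have e1 : Commute (σ * w1 * σ⁻¹) c3 := (cm_iff (r.conj rw1) rc).2 e.2
  rcases W_cases hw hw' with rfl | rfl | rfl | rfl
  · simp
  · exact e0
  · exact e1
  · rw [← conj_mul]; exact e0.mul_left e1

theorem mem_eq {N : Subgroup (Perm GolayPt)} {p q : ℕ} (h : InSub N p) (e : p = q) :
    toPerm q ∈ N := e ▸ h.2

theorem gen22 {N : Subgroup (Perm GolayPt)}
    (h : ∀ σ ∈ Spor.M22, (σ * c3 * σ⁻¹) • o0 = o0 → σ ∈ N) : Spor.M22 ≤ N := by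
  have k : ∀ t, (isFix [23, 0] t && Nat.beq (apM (pconj t pc) 8536111) 8536111) = true →
      InSub N t := fun t ht => by
    rw [Bool.and_eq_true, Nat.beq_eq] at ht
    have h1 := inSub_M22 ht.1
    exact ⟨h1.1, h _ h1.2 (((h1.rep.conj rc).smul_maskSet_eq_iff _ (by norm_num)).2 ht.2)⟩
  rw [← pclosure_gens22, pclosure_le]
  simp only [gens22, List.mem_cons, List.not_mem_nil, or_false, forall_eq_or_imp, forall_eq]
  exact ⟨mem_eq ((k 976647824107852233558830612858147008 (by decide +kernel)).mul
      (k 971795585491587105615058553047566464 (by decide +kernel))) (by decide +kernel),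
    mem_eq ((k 966636232900214883599767923508894304 (by decide +kernel)).mul
      ((k 967611708398229190455494195012579552 (by decide +kernel)).mul
        (k 960883791704669285084579839026473600 (by decide +kernel)))) (by decide +kernel)⟩

end Cfsg.Lib.J4T.Md
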