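import Cfsg.Agent.J4T.SM
import Cfsg.Agent.Block.PrimeSylow
import Cfsg.Agent.Known.Kit4

/-! Further facts on `M₂₂` and on a Sylow 2-subgroup of `M₂₂.2`. -/

set_option autoImplicit false

namespace Cfsg.Lib.J4T.Md

open Subgroup Cfsg.Lib.Spor Cfsg.Lib.SporChar Cfsg.Lib.SporChar.J4 Cfsg.Lib.Spor.MP Equiv MulAction
open scoped Pointwise

variable {σ : Perm GolayPt}

/-- Value of a word in two generators. -/
def wd (p q : ℕ) (l : List Bool) : ℕ :=
  List.rec pid (fun b _ ih => force ih fun r => pmul (cond b p q) r) l

theorem inSub_wd {K : Subgroup (Perm GolayPt)} {p q : ℕ} (hp : InSub K p) (hq : InSub K q)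
    (l : List Bool) : InSub K (wd p q l) := by
  induction l with
  | nil => exact inSub_pid K
  | cons b l ih => cases b <;> [exact hq.mul ih; exact hp.mul ih]

theorem nine_of {r a : ℕ} (hr : isPerm r = true) (ha : isFix [23, 0] a = true)
    (ho : hasOrder a 2 = true) {l l' : List Bool} (e : wd r a l = pa3) (e' : wd r a l' = pb3)
    {g : Perm GolayPt} (hg : g ∈ Spor.M22) : ∃ α ∈ Spor.M22, orderOf α = 2 ∧
      ∀ X : Subgroup (Perm GolayPt), g * toPerm r * g⁻¹ ∈ X → α ∈ X → 9 ∣ Nat.card X := by
  have h1 := inSub_M22 ha
  refine ⟨g * toPerm a * g⁻¹, cj22 hg h1.2,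
    ((MulAut.conj g).orderOf_eq _).trans (h1.rep.orderOf_eq ho), fun X h2 h3 => ?_⟩
  have k : ∀ l, InSub (X.comap (MulAut.conj g).toMonoidHom) (wd r a l) :=
    inSub_wd ⟨hr, h2⟩ ⟨h1.1, h3⟩
  have h4 := card_dvd_of_le (show T3 ≤ X.comap (MulAut.conj g).toMonoidHom from
    sup_le (zpowers_le.2 (mem_eq (k l) e)) (zpowers_le.2 (mem_eq (k l') e')))
  rw [card_T3] at h4
  exact h4.trans (card_comap_dvd_of_injective X _ (MulAut.conj g).injective)

theorem seven (h : σ ∈ Spor.M22) (o : orderOf σ = 7) : ∃ α ∈ Spor.M22, orderOf α = 2 ∧
    ∀ X : Subgroup (Perm GolayPt), σ ∈ X → α ∈ X → 9 ∣ Nat.card X := by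
  obtain ⟨r, hr, g, hg, rfl⟩ := isClassList_M22.exists_of_order h o
  rcases List.mem_pair.1 hr with rfl | rfl
  · exact nine_of (a := 972585098812262587711849628614283552)
      (l := [false, true, true, true, false, true, false, true, false, true, false, true, false, true, true, false, true, false, true, true, true, true])
      (l' := [true, true, false, true, true, true, true, false, true, false, true, true, false, true, true, false, true, true, true, true, false, true, true, true, false, true])
      (by decide +kernel) (by decide +kernel) (by decide +kernel) (by decide +kernel)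
      (by decide +kernel) hg
  · exact nine_of (a := 965345902738115650407910717671377344)
      (l := [true, true, true, true, false, true, false, true, true, true, true, false, true, false, true, true, true, false, true, true])
      (l' := [true, false, true, true, true, true, false, true, false, true, true, false, true, false, true, false, true, true, true, true, true, false, true, false, true])
      (by decide +kernel) (by decide +kernel) (by decide +kernel) (by decide +kernel)
      (by decide +kernel) hg

theorem conj22_two {τ : Perm GolayPt} (h : σ ∈ Spor.M22) (h2 : orderOf σ = 2)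
    (h' : τ ∈ Spor.M22) (h2' : orderOf τ = 2) : ∃ g ∈ Spor.M22, g * σ * g⁻¹ = τ := by
  obtain ⟨r, hr, g, hg, e⟩ := isClassList_M22.exists_of_order h h2
  obtain ⟨r', hr', g', hg', e'⟩ := isClassList_M22.exists_of_order h' h2'
  rw [List.mem_singleton.1 hr] at e
  rw [List.mem_singleton.1 hr'] at e'
  exact ⟨g' * g⁻¹, mul_mem hg' (inv_mem hg), by rw [← e, ← e']; group⟩

theorem count {S : Subgroup (Perm GolayPt)} (hS : S ≤ Spor.M22) {r : ℕ} (hr : r.Prime)
    (hd : r ∣ Nat.card S) (hc : ∀ q ∈ reps22.filter (fun q => Nat.beq q.2.1 r), q.2.2 = r) :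
    ∃ n e, Nat.card S = n * (r * e) ∧ n % r = 1 % r ∧ e ∣ r - 1 ∧
      (e = 1 → 5 ^ n.factorization 5 % r = 1 % r) := by
  have := Fact.mk hr
  obtain ⟨x, hx⟩ := exists_prime_orderOf_dvd_card' (G := S) r hd
  have o : orderOf (x : Perm GolayPt) = r := by rw [orderOf_coe, hx]
  have h1 : Spor.M22 ⊓ centralizer {(x : Perm GolayPt)} = zpowers (x : Perm GolayPt) := by
    obtain ⟨q, hq, g, hg, e⟩ := isClassList_M22.exists_of_order (hS x.2) o
    refine (eq_of_le_of_card_ge (zpowers_le.2 (mem_inf.2 ⟨hS x.2, mC.2 rfl⟩)) ?_).symm
    rw [isClassList_M22.card_cent_conj (List.mem_of_mem_filter hq) hg e, hc q hq, Nat.card_zpowers, o]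
  have h2 : ∀ d : S, d * x = x * d → d ∈ zpowers x := fun d e =>
    mem_zpowers_coe.2 (h1.le ⟨hS d.2, mC.2 (congrArg Subtype.val e)⟩)
  obtain ⟨P, e, -, h3, h4, -, h5, h6⟩ := Block.PS.selfCent_data hx
    (le_antisymm (fun d hd => h2 d (mC.1 hd)) (zpowers_le.2 (mC.2 rfl)))
  have h7 := card_mul_index (normalizer ((P : Subgroup S) : Set S))
  refine ⟨(normalizer ((P : Subgroup S) : Set S)).index, e, by rw [← h7, h6, mul_comm], ?_,
    Dvd.intro_left _ h5, fun e1 => ?_⟩
  · rw [show (normalizer ((P : Subgroup S) : Set S)).index = Nat.card (Sylow r S) from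
      P.card_eq_index_normalizer.symm]
    exact card_sylow_modEq_one r S
  · have h8 : normalizer ((P : Subgroup S) : Set S) = P :=
      (eq_of_le_of_card_ge le_normalizer (by rw [h6, e1, h3, mul_one])).symm
    have h9 := MonoidHom.ker_transferSylow_isComplement' P (h8.trans h4.symm).le
    have h10 := Known.pow_modEq_one_of_selfCent hr hx h2 (N := (MonoidHom.transferSylow P
      (h8.trans h4.symm).le).ker) (by rw [← h9.index_eq_card]; exact P.not_dvd_index)
      Nat.prime_five
    rw [← h9.index_eq_card] at h10
    rw [h8]
    exact h10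

theorem no_big {S : Subgroup (Perm GolayPt)} (hS : S ≤ Spor.M22) (h3 : ¬ 3 ∣ Nat.card S)
    (h7 : ¬ 7 ∣ Nat.card S) : Nat.card S < 325 := by
  have h1 : Nat.card S ∣ 7040 := by
    have := card_dvd_of_le hS
    rw [card_M22, show 443520 = 7040 * (3 ^ 2 * 7) by norm_num] at this
    exact (Nat.Coprime.mul_right ((Nat.prime_three.coprime_iff_not_dvd.2 h3).symm.pow_right 2)
      ((by norm_num : Nat.Prime 7).coprime_iff_not_dvd.2 h7).symm).dvd_of_dvd_mul_right this
  have h5 := fun h => count hS Nat.prime_five h (by decide +kernel)
  have h11 := fun h => count hS (by norm_num : Nat.Prime 11) h (by decide +kernel)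
  generalize Nat.card S = m at *
  by_contra hn
  have h2 : m ∈ (Nat.divisors 7040).filter (325 ≤ ·) := by
    simp only [Finset.mem_filter, Nat.mem_divisors]; exact ⟨⟨h1, by norm_num⟩, by omega⟩
  rw [show (Nat.divisors 7040).filter (325 ≤ ·) = {352, 440, 640, 704, 880, 1408, 1760, 3520, 7040}
    by decide +kernel] at h2
  have d4 : ∀ e, e ∣ 5 - 1 → e = 1 ∨ e = 2 ∨ e = 4 := fun e h => by
    have := Nat.le_of_dvd (by norm_num) h
    interval_cases e <;> simp_all
  have d10 : ∀ e, e ∣ 11 - 1 → e = 1 ∨ e = 2 ∨ e = 5 ∨ e = 10 := fun e h => by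
    have := Nat.le_of_dvd (by norm_num) h
    interval_cases e <;> simp_all
  simp only [Finset.mem_insert, Finset.mem_singleton] at h2
  by_cases e1 : m = 640 ∨ m = 7040
  · obtain ⟨n, e, h1, h2, h3, -⟩ := h5 (by omega)
    rcases d4 e h3 with rfl | rfl | rfl <;> omega
  obtain ⟨n, e, h1, h2, h3, h4⟩ := h11 (by omega)
  rcases d10 e h3 with rfl | rfl | rfl | rfl
  · obtain rfl : n = 320 := by omega
    have := h4 rfl
    rw [show 320 = 5 * 64 from rfl, Nat.factorization_mul (by norm_num) (by norm_num),
      Nat.Prime.factorization Nat.prime_five] at this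
    simp [Nat.factorization_eq_zero_of_not_dvd (by norm_num : ¬ 5 ∣ 64)] at this
  all_goals omega

/-- A Sylow 2-subgroup of `M₂₂.2`. -/
def TT : Subgroup (Perm GolayPt) :=
  D22 ⊓ centralizer {w0} ⊓ stabilizer (Perm GolayPt) (maskSet 131080)

/-- Test for centralising `w0` in `M₂₂.2`. -/
def isC (t : ℕ) : Bool := isStab 8388609 t && cm t pw0

/-- Test for `TT`. -/
def isT (t : ℕ) : Bool := isC t && Nat.beq (apM t 131080) 131080

theorem inC {t : ℕ} (h : isC t = true) : InSub (D22 ⊓ centralizer {w0}) t := by
  rw [isC, Bool.and_eq_true] at h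
  have h1 := inSub_of_isStab h.1
  rw [show maskSet 8388609 = {none, some 0} by decide +kernel] at h1
  exact ⟨h1.1, h1.2, mC.2 ((cm_iff h1.rep rw0).2 h.2)⟩

theorem inT {t : ℕ} (h : isT t = true) : InSub TT t := by
  rw [isT, Bool.and_eq_true, Nat.beq_eq] at h
  have h1 := inC h.1
  exact ⟨h1.1, h1.2, (h1.rep.smul_maskSet_eq_iff _ (by norm_num)).2 h.2⟩

theorem card_TT_le : Nat.card TT ≤ 256 := by
  set C := D22 ⊓ centralizer {w0}
  have h1 := card_eq_ncard_orbit_mul C (maskSet 131080)
  have h2 : Nat.card C ≤ 768 := by
    have h3 := Trans.card_mul_relIndex (inf_le_inf_right (centralizer {w0}) M22_le_D22)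
    have h4 : (Spor.M22 ⊓ centralizer {w0}).relIndex C ≤ 2 := by
      rw [show Spor.M22 ⊓ centralizer {w0} = Spor.M22 ⊓ C by
        rw [← inf_assoc, inf_eq_left.2 M22_le_D22], inf_relIndex_right, ← relIndex_M22]
      exact relIndex_le_of_le_right inf_le_left (by rw [relIndex_M22]; norm_num)
    rw [cent22_two (E0_le_M22 w0_mem) ord_w0] at h3
    change 384 * (Spor.M22 ⊓ centralizer {w0}).relIndex C = Nat.card C at h3
    omega
  have k : ∀ t m, m < 2 ^ 24 → isC t = true → apM t 131080 = m →
      maskSet m ∈ orbit C (maskSet 131080) := fun t m hm h e =>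
    mem_orbit_subgroup_iff.2 ⟨_, (inC h).2, ((inC h).rep.smul_maskSet_eq_iff _ hm).2 e⟩
  have h3 : 3 ≤ (orbit C (maskSet 131080)).ncard := by
    rw [← Set.ncard_eq_three.2 ⟨maskSet 34, maskSet 16388, maskSet 131080, by decide +kernel,
      by decide +kernel, by decide +kernel, rfl⟩]
    refine Set.ncard_le_ncard ?_
    rintro _ (rfl | rfl | rfl)
    · exact k 976489801752413920889132769761998944 _ (by norm_num) (by decide +kernel)
        (by decide +kernel)
    · exact k 981615875041154007794702691921757728 _ (by norm_num) (by decide +kernel)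
        (by decide +kernel)
    · exact mem_orbit_self _
  change Nat.card ↥(C ⊓ stabilizer (Perm GolayPt) (maskSet 131080)) ≤ 256
  nlinarith

/-- Chain of `TT`. -/
def cT : List (ℕ × List ℕ) :=
  [(4, [984818244535754528103549039458486304, 965128854020860192151391391390468128, 963721886883755259286232606933354528, 979121071158219704299181131031480352, 968708902336673183175954409307867168, 967812279691448225500382947153381408, 971592882964418941354553515258775584, 970499966350631336865513127433832480, 976448692869377735270425038196672544, 981818691054096003685363657089320992, 972512676110088067912772961567868960, 966182099583441531322624363496310816, 983548720921252936276249910206105632, 975346028712660580592452217730074656, 980224387687010295957922729495201824, 961365507626256404119956257276790816]),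
   (6, [984818244535754528103549039458486304, 964086604512079034595220789576373312, 982102465294895192938951998200452544, 970500119315863743489150393640323232, 972715533645191023441926575607612480, 979283409119483249701587601985157152, 967325647939042215147529412265752736, 983021549807354608510449376171689408]),
   (0, [984818244535754528103549039458486304, 12551347924398766213402335845586391])]

theorem chT : Chain cT TT :=
  (preChain_of_preChk (fun _ => inT) (by decide +kernel)).chain card_TT_le

theorem card_TT : Nat.card TT = 256 := chT.card_eq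

theorem TT_le : TT ≤ D22 := inf_le_left.trans inf_le_left

theorem E0_le_TT : E0 ≤ TT := chE.le_of_forall fun x hx t ht => (inT (List.all_eq_true.1
  (List.all_eq_true.1 (by decide +kernel : (Orb.cE.all fun x => x.2.all isT) = true) x hx) t ht)).2

theorem TT_o (h : σ ∈ TT) : σ • o0 = o0 := J4C.smul_o0_of_comm w0_mem w0_ne (mC.1 h.1.2)

/-- Code of an outer involution. -/
def pt3 : ℕ := 26436345848312700765106867857307831

/-- An outer involution inducing a transvection on `E0`. -/
noncomputable def t3 : Perm GolayPt := toPerm pt3

theorem rt3 : Rep t3 pt3 := rep_toPerm (by decide +kernel)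
theorem t3_mem : t3 ∈ TT := (inT (t := pt3) (by decide +kernel)).2
theorem t3_t3 : t3 * t3 = 1 := (rt3.mul rt3).eq_of_peq rep_one (by decide +kernel)
theorem t3_c3 : t3 * c3 * t3⁻¹ = c3 := (rt3.conj rc).eq_of_peq rc (by decide +kernel)

theorem t3_not : t3 ∉ Spor.M22 := fun h => by
  have := (mem_M22.1 h).2.1
  rw [← idxPt_23, rt3.apply_idxPt_eq_iff (by norm_num) (by norm_num)] at this
  exact absurd this (by decide +kernel)

theorem t3_cls (h : σ ∈ TT) : σ * t3 * σ⁻¹ * t3⁻¹ = 1 ∨ σ * t3 * σ⁻¹ * t3⁻¹ = w0 := by
  have r := ((rep_pack σ).conj rt3).mul rt3.inv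
  have e := chT.forall (leaf := fun c => force (pmul (pconj c pt3) (pinv pt3)) fun d =>
    peq d pid || peq d pw0) (by decide +kernel) σ h
  simp only [force_eq, Bool.or_eq_true] at e
  exact e.imp (r.eq_of_peq rep_one) (r.eq_of_peq rw0)

theorem t3_nonab : ∃ a ∈ TT, ∃ b ∈ TT, a * t3 = t3 * a ∧ b * t3 = t3 * b ∧ a * b ≠ b * a := by
  have h1 := inT (t := pu) (by decide +kernel)
  have h2 := inT (t := 972715533645191023441926575607612480) (by decide +kernel)
  exact ⟨_, h1.2, _, h2.2, (cm_iff h1.rep rt3).2 (by decide +kernel),
    (cm_iff h2.rep rt3).2 (by decide +kernel), fun e => absurd ((cm_iff h1.rep h2.rep).1 e)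
      (by decide +kernel)⟩

theorem center_TT (h : σ ∈ TT) (hc : ∀ τ ∈ TT, σ * τ = τ * σ) : σ = 1 ∨ σ = w0 := by
  have r := rep_pack σ
  have e := chT.forall (leaf := fun c => peq c pid || peq c pw0 ||
    [968708902336673183175954409307867168, 964086604512079034595220789576373312,
      982102465294895192938951998200452544, 12551347924398766213402335845586391].any
      fun k => !cm c k && isT k) (by decide +kernel) σ h
  simp only [Bool.or_eq_true, List.any_eq_true, Bool.and_eq_true, Bool.not_eq_true'] at e
  rcases e with e | ⟨k, -, e, e'⟩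
  · exact e.imp (r.eq_of_peq rep_one) (r.eq_of_peq rw0)
  · rw [(cm_iff r (inT e').rep).1 (hc _ (inT e').2)] at e
    exact absurd e (by decide)

/-- The centraliser in `TT` of the class of an element. -/
def Dc (s : TT) : Subgroup TT := centralizer {a | IsConj s a}

theorem mem_Dc {s g : TT} : g ∈ Dc s ↔ ∀ k : TT, k * s * k⁻¹ * g = g * (k * s * k⁻¹) :=
  ⟨fun h k => h _ (isConj_iff.2 ⟨k, rfl⟩), fun h _ ha => by
    obtain ⟨k, rfl⟩ := isConj_iff.1 ha; exact h k⟩

theorem big_Dc {s : TT} {L : List ℕ} {F : List (ℕ × List ℕ)}
    (h1 : (L.any fun l => peq (pack s.1) l) = true) (h0 : L.all isPerm = true)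
    (h2 : (cT.all fun x => x.2.all fun t => L.all fun l => force (pconj t l) fun d =>
      L.any fun l' => peq d l') = true)
    (h3 : preChk (fun t => isT t && L.all fun l => cm l t) F [] = true) :
    csize F ≤ Nat.card (Dc s) := by
  let A : Set (Perm GolayPt) := {a | ∃ l ∈ L, toPerm l = a}
  have r : ∀ l ∈ L, Rep (toPerm l) l := fun l hl => rep_toPerm (List.all_eq_true.1 h0 l hl)
  have hA : TT ≤ normalizer A := chT.le_of_forall fun x hx t ht => mem_normalizer_fintype (by
    rintro _ ⟨l, hl, rfl⟩
    obtain ⟨l', hl', e⟩ := List.any_eq_true.1 (List.all_eq_true.1 (List.all_eq_true.1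
      (List.all_eq_true.1 h2 x hx) t ht) l hl)
    exact ⟨l', hl', (((inT (List.all_eq_true.1 (List.all_eq_true.1 (by decide +kernel :
      (cT.all fun x => x.2.all isT) = true) x hx) t ht)).rep.conj (r l hl)).eq_of_peq
        (r l' hl') e).symm⟩)
  have hs : s.1 ∈ A := by
    obtain ⟨l, hl, e⟩ := List.any_eq_true.1 h1
    exact ⟨l, hl, ((rep_pack _).eq_of_peq (r l hl) e).symm⟩
  have h4 := (preChain_of_preChk (H := TT ⊓ centralizer A) (fun t ht => by
    rw [Bool.and_eq_true] at ht
    refine ⟨(inT ht.1).1, (inT ht.1).2, ?_⟩
    rintro _ ⟨l, hl, rfl⟩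
    exact (cm_iff (r l hl) (inT ht.1).rep).2 (List.all_eq_true.1 ht.2 l hl)) h3).le_card
  refine h4.trans ?_
  rw [← card_map_of_injective (f := TT.subtype) TT.subtype_injective]
  exact card_le_of_le fun g hg => ⟨⟨g, hg.1⟩, mem_Dc.2 fun k => Subtype.ext
    (hg.2 _ ((hA k.2 _).1 hs)), rfl⟩

theorem le_Dc {s : TT} (h : s.1 ∈ E0) : E0.subgroupOf TT ≤ Dc s := fun _ hg =>
  mem_Dc.2 fun k => Subtype.ext (Set0.comm_E0 (conj_mem_E0 (D22_le_M24 (TT_le k.2)) (TT_o k.2) h) hg)

theorem char_E0 (θ : TT ≃* TT) {e : TT} (he : e.1 ∈ E0) : (θ e).1 ∈ E0 := by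
  let b : TT := ⟨w1, E0_le_TT w1_mem⟩
  have hb : Dc b = E0.subgroupOf TT := le_antisymm (fun g hg => by
    have r := rep_pack g.1
    have e := chT.forall (leaf := fun c => !cm pw1 c || !cm (pconj pal pw1) c || inE c)
      (by decide +kernel) g g.2
    have e1 := congrArg Subtype.val (mem_Dc.1 hg 1)
    simp only [one_mul, inv_one, mul_one] at e1
    rw [(cm_iff rw1 r).1 e1, (cm_iff (ral.conj rw1) r).1 (congrArg Subtype.val (mem_Dc.1 hg
      ⟨al, (inT (t := pal) (by decide +kernel)).2⟩))] at e
    exact (memE r (D22_le_M24 (TT_le g.2))).2 e) (le_Dc w1_mem)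
  have hm : (Dc b).map θ.toMonoidHom = Dc (θ b) := by
    ext g
    rw [mem_map_equiv, mem_Dc, mem_Dc]
    refine ⟨fun h k => θ.symm.injective (by simpa using h (θ.symm k)),
      fun h k => θ.injective (by simpa using h (θ k))⟩
  have hc : Nat.card (Dc (θ b)) = 16 := by
    rw [← hm, card_map_of_injective θ.injective, hb,
      Nat.card_congr (subgroupOfEquivOfLe E0_le_TT).toEquiv, card_E0]
  have h1 : θ b ∈ Dc (θ b) := hm ▸ ⟨b, hb.ge w1_mem, rfl⟩
  have h2 : (θ b).1 * (θ b).1 = 1 := by
    rw [← coe_mul, ← map_mul, show b * b = 1 from Subtype.ext (sq_E0 w1_mem), map_one]; rfl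
  have h3 : (θ b).1 ∈ E0 := by
    have r := rep_pack (θ b).1
    have e := chT.forall (leaf := fun c => !peq (pmul c c) pid || (inE c ||
      ([980467689964839082853059301327602752, pal].any fun k => !cm (pconj k c) c && isT k) ||
      ([972715533645191023441926575607612480, 981616150452815826097002658071151680, 967933930814660160276170748135048256, 984696276478677314088622797856277568, 967325647939042215147529412265752736, 984412106118240619439132328872491168, 972999941695963904850298961866635424, 982224195638083417367313465984792736, 982102465294895192938951998200452544, 973121355147693701017410805644236224, 984209327819486398174424040943490496, 967528743129250142307004454690461120, 17617041893071352419475170158741559, 26841533525534135245095896892344375, 11943302717949000103320032424527927, 29029523206804134086316726415820855, 28826665701071936886111872293045335, 12145843332203879576343784496596055, 26719882389304997286299517257811031, 17739009920735306807106826245014615, 12551347924398766213402335845586391, 29313931278759190334460608182261207, 17332871511428871097798858112538071,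 26233250628710403444268717960631767, 26436345848312700765106867857307831, 29435344717495395150978220861995191, 17130093225672963550167670792435895, 12429617551820893990160630100310199].any fun l => peq c l) ||
      ([23738686339186281899546858814486711, 8339026678746245813039271321843895, 28166534165598912453092140412090551, 15116908082242924815843289399343287].any fun l => peq c l))) (by decide +kernel) _ (θ b).2
    rw [((r.mul r).eq_iff rep_one).1 h2] at e
    simp only [Bool.not_true, Bool.false_or, Bool.or_eq_true] at e
    rcases e with ((e | e) | e) | e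
    · exact (memE r (D22_le_M24 (TT_le (θ b).2))).2 e
    · obtain ⟨k, -, e⟩ := List.any_eq_true.1 e
      rw [Bool.and_eq_true] at e
      rw [(cm_iff ((inT e.2).rep.conj r) r).1
        (congrArg Subtype.val (mem_Dc.1 h1 ⟨_, (inT e.2).2⟩))] at e
      exact absurd e.1 (by decide)
    · have := big_Dc (F := [(1, [984818244535754528103549039458486304, 972715533645191023441926575607612480, 967325647939042215147529412265752736, 982102465294895192938951998200452544]),
   (4, [984818244535754528103549039458486304, 967812279691448225500382947153381408, 981818691054096003685363657089320992, 972512676110088067912772961567868960]),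
   (0, [984818244535754528103549039458486304, 17617041893071352419475170158741559])]) e
        (by decide +kernel) (by decide +kernel) (by decide +kernel)
      rw [hc] at this
      exact absurd this (by decide)
    · have := big_Dc (F := [(4, [984818244535754528103549039458486304, 971146226774103804028557674093328544, 963721886883755259286232606933354528, 979121071158219704299181131031480352, 961080958450830253918203494345586848, 967812279691448225500382947153381408, 964885808011479659286603987529349280, 970499966350631336865513127433832480, 975630260998831268092145860837750944, 981818691054096003685363657089320992, 972512676110088067912772961567868960, 980670251605041108494258577722161312, 983548720921252936276249910206105632, 976489860550145085836893008395614368, 966425937865049720579277324016531616, 968668051545104626913751122653067424]),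
   (0, [984818244535754528103549039458486304, 26436345848312700765106867857307831])]) e
        (by decide +kernel) (by decide +kernel) (by decide +kernel)
      rw [hc] at this
      exact absurd this (by decide)
  have h4 := eq_of_le_of_card_ge (le_Dc h3)
    (by rw [hc, Nat.card_congr (subgroupOfEquivOfLe E0_le_TT).toEquiv, card_E0])
  exact h4.ge (hm ▸ ⟨e, hb.ge he, rfl⟩)

end Cfsg.Lib.J4T.Md
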