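import Cfsg.Agent.J4T.SA
import Cfsg.Agent.J4T.SM
import Cfsg.Agent.J4T.SN

/-! Groups with an element of order three whose centralizer is the threefold or sixfold cover of
`M₂₂`: the 2-subgroups attached to a subgroup of order nine. -/

set_option autoImplicit false

namespace Cfsg.Lib.J4T

open Subgroup Cfsg.Lib.Spor Cfsg.Lib.SporChar Cfsg.Lib.Local Cfsg.Lib.SporChar.J4 Cfsg.Lib.Trans
  Cfsg.Lib.Spor.MP Equiv Md
open scoped commutatorElement Pointwise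
open Six (xC conj_cent conj_zp conj_mem_C)

variable {G : Type*} [Group G] {x z y s t g : G} {p : G → Perm GolayPt} {A : Subgroup G}

/-- The subgroup generated by the involutions. -/
def Om (K : Subgroup G) : Subgroup G := closure {c | c ∈ K ∧ c * c = 1}

/-- The involutions centralising `A`. -/
def Wt (A : Subgroup G) : Subgroup G := Om (centralizer (A : Set G))

/-- The involutions centralising `u` and `Wt A`. -/
def Bs (A : Subgroup G) (u : G) : Subgroup G :=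
  Om (centralizer ({u} : Set G) ⊓ centralizer (Wt A : Set G))

/-- The subgroup generated by the `Bs A u`. -/
def Vs (A : Subgroup G) : Subgroup G := closure {c | ∃ u ∈ A, u ≠ 1 ∧ c ∈ Bs A u}

theorem om_conj {K K' : Subgroup G} {n : G} (h : ∀ c ∈ K, n * c * n⁻¹ ∈ K') {c : G}
    (hc : c ∈ Om K) : n * c * n⁻¹ ∈ Om K' :=
  (closure_le ((Om K').comap (MulAut.conj n).toMonoidHom)).2 (fun a ha =>
    subset_closure (k := {c | c ∈ K' ∧ c * c = 1}) ⟨h a ha.1, by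
      show n * a * n⁻¹ * (n * a * n⁻¹) = 1
      rw [conj_mul, ha.2]; simp⟩) hc

theorem cmem {K : Subgroup G} {n c : G} (hn : n ∈ normalizer (K : Set G)) (hc : c ∈ K) :
    n * c * n⁻¹ ∈ K := (mem_normalizer_iff.1 hn c).1 hc

theorem norm_of {K L : Subgroup G} (h : ∀ n ∈ L, ∀ c ∈ K, n * c * n⁻¹ ∈ K) :
    L ≤ normalizer (K : Set G) := fun n hn => mem_normalizer_iff.2 fun c =>
  ⟨h n hn c, fun hc => by simpa [mul_assoc] using h _ (inv_mem hn) _ hc⟩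

theorem wt_norm : normalizer (A : Set G) ≤ normalizer (Wt A : Set G) :=
  norm_of fun _ hn _ => om_conj fun _ => cmem (normalizer_le_normalizer_centralizer A hn)

theorem bs_conj {n u c : G} (hn : n ∈ normalizer (A : Set G)) (hc : c ∈ Bs A u) :
    n * c * n⁻¹ ∈ Bs A (n * u * n⁻¹) :=
  om_conj (fun _ ha => mem_inf.2 ⟨conj_cent.2 (by simpa [mul_assoc] using (mem_inf.1 ha).1),
    cmem (normalizer_le_normalizer_centralizer _ (wt_norm hn)) (mem_inf.1 ha).2⟩) hc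

theorem bs_le {u : G} (hu : u ∈ A) (h1 : u ≠ 1) : Bs A u ≤ Vs A :=
  fun _ hc => subset_closure ⟨u, hu, h1, hc⟩

theorem vs_norm : normalizer (A : Set G) ≤ normalizer (Vs A : Set G) :=
  norm_of fun n hn _ hc => (closure_le ((Vs A).comap (MulAut.conj n).toMonoidHom)).2
    (fun _ ha => by
      obtain ⟨u, hu, h1, ha⟩ := ha
      exact bs_le (cmem hn hu) (by simpa using h1) (bs_conj hn ha)) hc

theorem bs_inv {u : G} : Bs A u⁻¹ = Bs A u := by rw [Bs, Six.cent_inv, Bs]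

theorem comm_sq {K : Subgroup G} (h : ∀ a ∈ K, a * a = 1) {a b : G} (ha : a ∈ K) (hb : b ∈ K) :
    a * b = b * a := by
  have h1 := h _ (mul_mem ha hb)
  calc a * b = a * b * (b * a * (b * a)) := by rw [h _ (mul_mem hb ha), mul_one]
    _ = a * (b * b) * a * (b * a) := by group
    _ = _ := by rw [h b hb, mul_one, h a ha, one_mul]

theorem inv_of_sq {a : G} (h : a * a = 1) : a⁻¹ = a := inv_eq_of_mul_eq_one_right h

/-- The normalised configuration. -/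
structure Nm (x z y s t : G) (p : G → Perm GolayPt) (A : Subgroup G) : Prop extends Sx x z p where
  sx : s * x * s⁻¹ = y
  sy : s * y * s⁻¹ = x
  yC : y ∈ centralizer ({x} : Set G)
  py : p y = c3
  tC : t ∈ centralizer ({x} : Set G)
  ty : t * y * t⁻¹ = y⁻¹
  pt : p t = ta
  hA : A = zpowers x ⊔ zpowers y
  ne : z = 1 ∨ s * z * s⁻¹ ≠ z

theorem Fx.exists_nm [Finite G] (h : Fx x z y g p) (ne : z = 1 ∨ g * z * g⁻¹ ≠ z) :
    ∃ σ ∈ Spor.M22, ∃ y s t A, Nm x z y s t (fun a => σ * p a * σ⁻¹) A := by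
  obtain ⟨σ, hσ, e⟩ := conj22_three (h.p_mem y h.yC) (h.ord_p h.yC h.ycube h.y_not) c3_mem ord_c3
  have h' := h.toSx.conjp hσ
  obtain ⟨t, ht, et⟩ := h'.p_surj ta ta_mem
  have h1 : t * y * t⁻¹ ∈ centralizer ({x} : Set G) := mul_mem (mul_mem ht h.yC) (inv_mem ht)
  have h2 : t * y * t⁻¹ * y ∈ zpowers x ⊔ zpowers z := (h'.p_eq_one _ (mul_mem h1 h.yC)).1 (by
    rw [h'.p_mul _ h1 _ h.yC, h'.p_conj ht h.yC, et, e, ta_c3, inv_mul_cancel])
  generalize hk : t * y * t⁻¹ * y = k at h2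
  have c : Commute y k := h.ker_comm h2 h.yC
  have e1 : t * y * t⁻¹ = k * y⁻¹ := by rw [← hk]; group
  have k3 : k ^ 3 = 1 := by
    have := c.symm.inv_right.mul_pow 3
    rw [← e1, conj_pow, inv_pow, h.ycube] at this
    simpa using this.symm
  have hx := h.mem_zx (n := 1) h2 (by rwa [pow_one])
  have kC := h.ker_le h2
  have y3 : (y * k) ^ 3 = 1 := by rw [c.mul_pow, h.ycube, k3, mul_one]
  have yn : y * k ∉ zpowers x := fun e => h.y_not ((Subgroup.mul_mem_cancel_right _ hx).1 e)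
  obtain ⟨d, hd, ed⟩ := h.cls h.yC h.ycube h.y_not (mul_mem h.yC kC) y3 yn
  have e2 : d * g * x * (d * g)⁻¹ = y * k := by rw [← ed, ← h.eq_y]; group
  have F : Fx x z (y * k) (d * g) p := ⟨h.toSx, e2, mul_mem h.yC kC, yn⟩
  obtain ⟨m, hm, em⟩ := h.cls (c := (d * g)⁻¹ * x * (d * g)) F.yC y3 yn
    (conj_cent.1 (e2 ▸ F.x_mem)) (by
      have := conj_pow (i := 3) (a := (d * g)⁻¹) (b := x)
      rw [inv_inv, h.cube] at this
      simpa using this)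
    (fun e => by
      have h3 := conj_zp.2 e
      rw [e2] at h3
      refine yn (eq_of_le_of_card_ge (zpowers_le.2 h3) ?_ ▸ mem_zpowers _)
      rw [Nat.card_zpowers, Nat.card_zpowers, F.y3, h.x3])
  refine ⟨σ, hσ, y * k, d * g * m, t, _, h', ?_, ?_, F.yC, ?_, ht, ?_, et, rfl, ne.imp_right fun n e3 => n ?_⟩
  · calc d * g * m * x * (d * g * m)⁻¹ = d * g * (m * x * m⁻¹) * (d * g)⁻¹ := by group
      _ = _ := by rw [mC'.1 hm, e2]
  · calc d * g * m * (y * k) * (d * g * m)⁻¹ = d * g * (m * (y * k) * m⁻¹) * (d * g)⁻¹ := by group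
      _ = x := by rw [em]; group
  · rw [h'.p_mul _ h.yC _ kC, (h'.p_eq_one _ kC).2 h2, mul_one, e]
  · rw [← conj_mul, e1, mul_inv_eq_iff_eq_mul.2 (h.ker_comm h2 ht), mul_inv_rev,
      c.symm.inv_right.eq, c.symm.inv_inv.eq, mul_assoc, mul_left_cancel_iff, eq_inv_iff_mul_eq_one,
      ← k3, pow_succ, pow_two]
  · calc g * z * g⁻¹ = d⁻¹ * (d * g * (m * z * m⁻¹) * (d * g)⁻¹) * d := by
          rw [mC'.1 (h.cent hm)]; group
      _ = d⁻¹ * (d * g * m * z * (d * g * m)⁻¹) * d := by group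
      _ = z := by rw [e3, mul_assoc, ← mC.1 (h.cent hd), inv_mul_cancel_left]

namespace Nm

variable (h : Nm x z y s t p A)
include h

theorem y_not : y ∉ zpowers x := fun e => by
  have := ord_c3
  rw [← h.py, (h.p_eq_one y h.yC).2 (mem_sup_left e), orderOf_one] at this
  omega

theorem fx : Fx x z y s p := ⟨h.toSx, h.sx, h.yC, h.y_not⟩

theorem ss : s * (s * z * s⁻¹) * s⁻¹ = z := by
  have := mC'.1 (h.cent (mC'.2 (show s * s * x * (s * s)⁻¹ = x from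
    Eq.trans (by rw [← h.sx]; group) h.sy)))
  exact Eq.trans (by group) this

theorem sx' : s⁻¹ * x * s = y := by rw [← h.sy]; group

theorem swap : Nm y (s * z * s⁻¹) x s (s * t * s⁻¹) (fun a => p (s⁻¹ * a * s)) A where
  toSx := h.fx.sy
  sx := h.sy
  sy := h.sx
  yC := h.fx.x_mem
  py := by rw [h.sx', h.py]
  tC := h.sx ▸ conj_cent.2 (by simpa [mul_assoc] using h.tC)
  ty := by
    calc s * t * s⁻¹ * x * (s * t * s⁻¹)⁻¹ = s * (t * (s⁻¹ * x * s) * t⁻¹) * s⁻¹ := by group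
      _ = _ := by rw [h.sx', h.ty, ← h.sy]; group
  pt := by simpa [mul_assoc] using h.pt
  hA := h.hA.trans (sup_comm _ _)
  ne := h.ne.imp (fun e => by simp [e]) fun e e' => e (h.ss.symm.trans e').symm

theorem xA : x ∈ A := h.hA ▸ mem_sup_left (mem_zpowers x)

theorem yA : y ∈ A := h.hA ▸ mem_sup_right (mem_zpowers y)

theorem A_le {K : Subgroup G} : A ≤ K ↔ x ∈ K ∧ y ∈ K := by
  rw [h.hA, sup_le_iff, zpowers_le, zpowers_le]

theorem AC : A ≤ centralizer ({x} : Set G) := h.A_le.2 ⟨xC, h.yC⟩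

theorem memA {c : G} : c ∈ centralizer (A : Set G) ↔
    c ∈ centralizer ({x} : Set G) ∧ c ∈ centralizer ({y} : Set G) :=
  ⟨fun e => ⟨mC.2 (e x h.xA).symm, mC.2 (e y h.yA).symm⟩, fun e _ ha =>
    mC.1 (h.A_le.2 ⟨mC.2 (mC.1 e.1).symm, mC.2 (mC.1 e.2).symm⟩ ha)⟩

theorem A_comm {a b : G} (ha : a ∈ A) (hb : b ∈ A) : a * b = b * a :=
  h.memA.2 ⟨h.AC hb, h.swap.AC hb⟩ a ha

theorem A_dec {a : G} (ha : a ∈ A) : ∃ u ∈ zpowers x, ∃ v ∈ zpowers y, a = u * v := by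
  rw [h.hA] at ha
  obtain ⟨u, hu, v, hv, e⟩ := (Set.ext_iff.1 (coe_mul_of_left_le_normalizer_right _ _
    (le_trans (zpowers_le.2 (by rw [centralizer_zpowers_eq_sing]; exact h.fx.x_mem))
      (centralizer_le_normalizer _))) a).1 ha
  exact ⟨u, hu, v, hv, e.symm⟩

theorem A_cube {a : G} (ha : a ∈ A) : a ^ 3 = 1 := by
  obtain ⟨u, hu, v, hv, rfl⟩ := h.A_dec ha
  rw [(show Commute u v from h.A_comm (zpowers_le.2 h.xA hu) (zpowers_le.2 h.yA hv)).mul_pow,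
    h.cube_zp hu, h.swap.cube_zp hv, mul_one]

theorem A_cases {a : G} (ha : a ∈ A) (h1 : a ≠ 1) : (a = x ∨ a = x⁻¹) ∨ (a = y ∨ a = y⁻¹) ∨
    (a = y * x ∨ a = (y * x)⁻¹) ∨ a = y * x⁻¹ ∨ a = (y * x⁻¹)⁻¹ := by
  obtain ⟨u, hu, v, hv, rfl⟩ := h.A_dec ha
  have c := h.fx.xy
  rcases mem_zpowers_three h.x3 hu with rfl | rfl | rfl <;>
    rcases mem_zpowers_three h.fx.y3 hv with rfl | rfl | rfl <;>
    simp [c.eq, c.inv_left.eq, c.inv_right.eq, c.inv_inv.eq] at h1 ⊢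

theorem A3 : IsPGroup 3 A := fun a => ⟨1, Subtype.ext (by simpa using h.A_cube a.2)⟩

theorem normA {n : G} [Finite G] (h1 : n * x * n⁻¹ ∈ A) (h2 : n * y * n⁻¹ ∈ A) :
    n ∈ normalizer (A : Set G) :=
  mem_normalizer_fintype fun _ ha => (h.A_le (K := A.comap (MulAut.conj n).toMonoidHom)).2 ⟨h1, h2⟩ ha

theorem lif {c : G} (hc : c ∈ centralizer ({x} : Set G)) (h2 : p c * p c = 1) :
    ∃ w ∈ zpowers x, c * w * (c * w) = 1 := by
  obtain ⟨a, ha, b, hb, e⟩ := h.ker_eq ((h.p_eq_one _ (mul_mem hc hc)).1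
    (by rw [h.p_mul c hc c hc, h2]))
  have aC := h.ker_le (mem_sup_left ha)
  have e1 : c * a * (c * a) = b := by
    have c1 := h.ker_comm (mem_sup_left ha) hc
    have c2 : Commute a b := h.ker_comm (mem_sup_right hb) aC
    calc c * a * (c * a) = c * (a * c) * a := by group
      _ = a * b * a * a := by rw [← c1, ← e]; group
      _ = b * a ^ 3 := by rw [c2.eq]; simp [pow_succ, mul_assoc]
      _ = b := by rw [h.cube_zp ha, mul_one]
  refine ⟨a, ha, ?_⟩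
  have dC := mul_mem hc aC
  have pd : p (c * a) = p c := by
    rw [h.p_mul c hc a aC, (h.p_eq_one a aC).2 (mem_sup_left ha), mul_one]
  have d4 : (c * a) ^ 2 ^ 2 = 1 := by
    rw [show 2 ^ 2 = 2 * 2 from rfl, pow_mul, pow_two (c * a), e1, pow_two, h.sq_zp hb]
  generalize c * a = d at *
  rcases h.ne with rfl | ne
  · rw [e1]; simpa using hb
  by_cases e0 : p c = 1
  · exact h.sq_zp (h.mem_zz ((h.p_eq_one d dC).1 (pd.trans e0)) d4)
  have wC : s * z * s⁻¹ ∈ centralizer ({x} : Set G) := mC.2 (mC.1 (h.swap.cent h.swap.yC)).symm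
  have w1 : p (s * z * s⁻¹) ≠ 1 := fun e => by
    rcases (zp2 h.zz).1 (h.mem_zz (n := 1) ((h.p_eq_one _ wC).1 e)
      (by rw [pow_one, pow_two, h.swap.zz])) with e | e
    · exact ne (by rw [show z = 1 by simpa using e]; simp)
    · exact ne e
  obtain ⟨σ, hσ, e2⟩ := conj22_two (h.p_mem _ wC) (J4C.orderOf_two
    (by rw [← h.p_mul _ wC _ wC, h.swap.zz, h.p_one]) w1) (h.p_mem c hc) (J4C.orderOf_two h2 e0)
  obtain ⟨k, hk, rfl⟩ := h.p_surj σ hσ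
  have m2 : k * (s * z * s⁻¹) * k⁻¹ * (k * (s * z * s⁻¹) * k⁻¹) = 1 := by
    rw [conj_mul, h.swap.zz]; simp
  have mC' := mul_mem (mul_mem hk wC) (inv_mem hk)
  rw [← h.p_conj hk wC, ← pd] at e2
  generalize k * (s * z * s⁻¹) * k⁻¹ = m at *
  have h3 : m * d ∈ zpowers x ⊔ zpowers z := (h.p_eq_one _ (mul_mem mC' dC)).1
    (by rw [h.p_mul _ mC' _ dC, e2, pd, h2])
  have c1 : Commute m (m * d) := h.ker_comm h3 mC'
  have c2 : Commute m d := by simpa [← mul_assoc, m2] using (Commute.refl m).mul_right c1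
  have h4 := h.sq_zp (h.mem_zz (n := 2) h3 (by
    rw [c2.mul_pow, d4, show 2 ^ 2 = 2 * 2 from rfl, pow_mul, pow_two m, m2]; simp))
  rwa [mul_assoc, ← mul_assoc d, ← c2.eq, mul_assoc, ← mul_assoc, m2, one_mul] at h4

theorem eq_one_zx {w : G} (hw : w ∈ zpowers x) (h2 : w * w = 1) : w = 1 := by
  simpa using pow_gcd_eq_one.2 ⟨h.cube_zp hw, (pow_two w).trans h2⟩

/-- The involutions over `E0`. -/
def B0 : Subgroup G where
  carrier := {b | b ∈ centralizer ({x} : Set G) ∧ p b ∈ E0 ∧ b * b = 1}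
  one_mem' := ⟨one_mem _, by rw [h.p_one]; exact one_mem _, one_mul 1⟩
  inv_mem' := fun {a} ha => by rwa [inv_of_sq ha.2.2]
  mul_mem' := fun {a b} ha hb => by
    have h1 := mul_mem ha.1 hb.1
    have h2 : p (a * b) ∈ E0 := by rw [h.p_mul a ha.1 b hb.1]; exact mul_mem ha.2.1 hb.2.1
    refine ⟨h1, h2, ?_⟩
    obtain ⟨w, hw, e⟩ := h.lif h1 (sq_E0 h2)
    have c : Commute (a * b) w := h.ker_comm (mem_sup_left hw) h1
    have e1 : a * b * (a * b) = (w * w)⁻¹ := by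
      rw [eq_inv_iff_mul_eq_one, ← e, mul_assoc (a * b), mul_assoc (a * b), ← mul_assoc w, ← c.eq]
      group
    have h3 : a * b * (a * b) ∈ zpowers x := e1 ▸ inv_mem (mul_mem hw hw)
    refine h.eq_one_zx h3 ?_
    have c2 := h.ker_comm (mem_sup_left h3) ha.1
    calc a * b * (a * b) * (a * b * (a * b))
        = a * b * (a * b) * (a * (a * (a * b * (a * b)))) := by
          rw [← mul_assoc a a, ha.2.2, one_mul]
      _ = a * b * a * (b * (a * a) * b) * a * b * a := by rw [c2]; group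
      _ = a * b * a * (b * b) * a * b * a := by rw [ha.2.2, mul_one b]
      _ = a * b * (a * a) * b * a := by rw [hb.2.2]; group
      _ = a * (b * b) * a := by rw [ha.2.2]; group
      _ = 1 := by rw [hb.2.2, mul_one, ha.2.2]

theorem memB0 {b : G} : b ∈ h.B0 ↔ b ∈ centralizer ({x} : Set G) ∧ p b ∈ E0 ∧ b * b = 1 := Iff.rfl

theorem zB0 {w : G} (hw : w ∈ zpowers z) : w ∈ h.B0 :=
  ⟨h.ker_le (mem_sup_right hw), by
    rw [(h.p_eq_one _ (h.ker_le (mem_sup_right hw))).2 (mem_sup_right hw)]; exact one_mem _,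
    h.sq_zp hw⟩

theorem zz_of {b : G} (hb : b ∈ centralizer ({x} : Set G)) (h2 : b * b = 1) (h1 : p b = 1) :
    b ∈ zpowers z :=
  h.mem_zz (n := 1) ((h.p_eq_one b hb).1 h1) (by rw [pow_one, pow_two, h2])

theorem liftB {σ : Perm GolayPt} (hσ : σ ∈ Spor.M22) (h2 : σ * σ = 1) :
    ∃ b ∈ centralizer ({x} : Set G), b * b = 1 ∧ p b = σ := by
  obtain ⟨c, hc, rfl⟩ := h.p_surj σ hσ
  obtain ⟨w, hw, e⟩ := h.lif hc h2
  have wC := h.ker_le (mem_sup_left hw)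
  exact ⟨c * w, mul_mem hc wC, e, by
    rw [h.p_mul c hc w wC, (h.p_eq_one w wC).2 (mem_sup_left hw), mul_one]⟩

theorem liftE {σ : Perm GolayPt} (hσ : σ ∈ E0) : ∃ b ∈ h.B0, p b = σ := by
  obtain ⟨b, h1, h2, rfl⟩ := h.liftB (E0_le_M22 hσ) (sq_E0 hσ)
  exact ⟨b, ⟨h1, hσ, h2⟩, rfl⟩

theorem conjB0 {k b : G} (hk : k ∈ centralizer ({x} : Set G)) (ho : p k • o0 = o0) (hb : b ∈ h.B0) :
    k * b * k⁻¹ ∈ h.B0 :=
  ⟨mul_mem (mul_mem hk hb.1) (inv_mem hk), by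
    rw [h.p_conj hk hb.1]; exact conj_mem_E0 (m24 (h.p_mem k hk)) ho hb.2.1,
    by rw [conj_mul, hb.2.2]; simp⟩

theorem yB0 {b : G} (hb : b ∈ h.B0) : y * b * y⁻¹ ∈ h.B0 := h.conjB0 h.yC (h.py ▸ c3_o) hb

theorem cop {b : G} (hb : b ∈ h.B0) (e : p b * c3 = c3 * p b) : b ∈ centralizer ({y} : Set G) := by
  have h1 := mul_mem hb (h.yB0 (inv_mem hb))
  have h2 := h.zz_of h1.1 h1.2.2 (by
    rw [h.p_mul _ hb.1 _ (h.yB0 (inv_mem hb)).1, h.p_conj h.yC (inv_mem hb.1), h.p_inv hb.1, h.py,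
      ← mul_assoc, ← mul_assoc, e]; group)
  exact mC.2 (Sx.cent_of_sq h.fx.ycube (h.sq_zp h2) (h.ker_comm (mem_sup_right h2) h.yC).symm
    (by group))

theorem pc {c : G} (hc : c ∈ centralizer ({x} : Set G)) {b : G} (hb : b ∈ centralizer ({x} : Set G))
    (e : c * b = b * c) : p c * p b = p b * p c := by
  rw [← h.p_mul c hc b hb, e, h.p_mul b hb c hc]

theorem memW {c : G} : c ∈ Wt A ↔
    c ∈ centralizer ({x} : Set G) ∧ c ∈ centralizer ({y} : Set G) ∧ c * c = 1 := by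
  refine ⟨fun hc => ?_, fun hc => subset_closure ⟨h.memA.2 ⟨hc.1, hc.2.1⟩, hc.2.2⟩⟩
  have := (closure_le (h.B0 ⊓ centralizer ({y} : Set G))).2 (fun a ha => by
    have h1 := h.memA.1 ha.1
    exact ⟨⟨h1.1, mem_of_sq (h.p_mem a h1.1) (h.py ▸ h.pc h1.1 h.yC (mC.1 h1.2))
      (by rw [← h.p_mul a h1.1 a h1.1, ha.2, h.p_one]), ha.2⟩, h1.2⟩) hc
  exact ⟨this.1.1, this.2, this.1.2.2⟩

theorem WB0 {c : G} (hc : c ∈ Wt A) : c ∈ h.B0 ∧ p c * c3 = c3 * p c := by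
  obtain ⟨h1, h2, h3⟩ := h.memW.1 hc
  have h4 := h.py ▸ h.pc h1 h.yC (mC.1 h2)
  exact ⟨⟨h1, mem_of_sq (h.p_mem c h1) h4 (by rw [← h.p_mul c h1 c h1, h3, h.p_one]), h3⟩, h4⟩

theorem W_of {b : G} (hb : b ∈ h.B0) (e : p b * c3 = c3 * p b) : b ∈ Wt A :=
  h.memW.2 ⟨hb.1, h.cop hb e, hb.2.2⟩

theorem zW : z ∈ Wt A := h.memW.2 ⟨h.zC, mC.2 (mC.1 (h.cent h.yC)).symm, h.zz⟩

theorem E_dec {c : G} (hc : c ∈ centralizer ({x} : Set G)) (e : p c ∈ E0) :
    ∃ b ∈ h.B0, ∃ a ∈ zpowers x, c = b * a := by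
  obtain ⟨b, hb, e1⟩ := h.liftE e
  obtain ⟨a, ha, w, hw, e2⟩ := h.ker_eq ((h.p_eq_one _ (mul_mem (inv_mem hb.1) hc)).1
    (by rw [h.p_mul _ (inv_mem hb.1) _ hc, h.p_inv hb.1, e1, inv_mul_cancel]))
  refine ⟨b * w, mul_mem hb (h.zB0 hw), a, ha, ?_⟩
  rw [mul_assoc, ← h.ker_comm (mem_sup_right hw) (h.ker_le (mem_sup_left ha)), ← e2]
  group

theorem tri_dec {c : G} (hc : c ∈ centralizer ({x} : Set G)) (e : Tri (p c)) :
    ∃ b ∈ h.B0, ∃ a ∈ A, c = b * a := by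
  have k : ∀ v ∈ A, p c * p v ∈ E0 → ∃ b ∈ h.B0, ∃ a ∈ A, c = b * a := fun v hv e => by
    obtain ⟨b, hb, a, ha, e1⟩ := h.E_dec (mul_mem hc (h.AC hv)) (by rwa [h.p_mul c hc v (h.AC hv)])
    exact ⟨b, hb, a * v⁻¹, mul_mem (zpowers_le.2 h.xA ha) (inv_mem hv), by
      rw [← mul_assoc, ← e1]; group⟩
  rcases e with e | e | e
  · exact k 1 (one_mem _) (by rwa [h.p_one, mul_one])
  · exact k y h.yA (by rwa [h.py])
  · exact k y⁻¹ (inv_mem h.yA) (by rwa [h.p_inv h.yC, h.py])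

theorem tri_of_cent {c : G} (hc : c ∈ centralizer ({x} : Set G))
    (hw : c ∈ centralizer (Wt A : Set G)) : Tri (p c) := by
  obtain ⟨a, ha, e⟩ := h.liftE w0_mem
  obtain ⟨b, hb, e'⟩ := h.liftE w1_mem
  exact tri_of_W (h.p_mem c hc) (e ▸ h.pc hc ha.1 (hw a (h.W_of ha (e ▸ w0_c3))).symm)
    (e' ▸ h.pc hc hb.1 (hw b (h.W_of hb (e' ▸ w1_c3))).symm)

theorem B_eq : Bs A x = h.B0 := by
  refine le_antisymm ((Subgroup.closure_le h.B0).2 fun a ha => ?_) fun b hb =>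
    Subgroup.subset_closure ⟨mem_inf.2 ⟨hb.1, fun w hw =>
      comm_sq (K := h.B0) (fun _ ha => ha.2.2) (h.WB0 hw).1 hb⟩, hb.2.2⟩
  obtain ⟨⟨h1, h2⟩, h3⟩ := ha
  exact ⟨h1, (h.tri_of_cent h1 h2).mem (.inl (by rw [← h.p_mul a h1 a h1, h3, h.p_one])), h3⟩

theorem memB {b : G} : b ∈ Bs A x ↔ b ∈ centralizer ({x} : Set G) ∧ p b ∈ E0 ∧ b * b = 1 := by
  rw [h.B_eq]; rfl

theorem WB : Wt A ≤ Bs A x := fun _ hc => h.B_eq ▸ (h.WB0 hc).1

theorem cenW {c : G} (hc : c ∈ centralizer ({x} : Set G)) (hw : c ∈ centralizer (Wt A : Set G)) :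
    ∃ b ∈ Bs A x, ∃ a ∈ A, c = b * a := h.B_eq ▸ h.tri_dec hc (h.tri_of_cent hc hw)

theorem cenB {c : G} (hc : c ∈ centralizer ({x} : Set G)) (hw : c ∈ centralizer (Bs A x : Set G)) :
    ∃ b ∈ Bs A x, ∃ a ∈ zpowers x, c = b * a := by
  obtain ⟨a, ha, e⟩ := h.liftE u0_mem
  rw [h.B_eq]
  exact h.E_dec hc ((h.tri_of_cent hc (centralizer_le h.WB hw)).mem
    (.inr (e ▸ h.pc hc ha.1 (hw a (h.B_eq ▸ ha)).symm)))

theorem normB [Finite G] {k : G} (hk : k ∈ centralizer ({x} : Set G)) (ho : p k • o0 = o0) :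
    k ∈ normalizer (Bs A x : Set G) := by
  rw [h.B_eq]; exact mem_normalizer_fintype fun _ hb => h.conjB0 hk ho hb

theorem sqB {b : G} (hb : b ∈ Bs A x) : b * b = 1 := (h.memB.1 hb).2.2

theorem twoB : IsPGroup 2 (Bs A x) := fun b => ⟨1, Subtype.ext (by simpa [pow_two] using h.sqB b.2)⟩

theorem cardB [Finite G] : Nat.card (Bs A x) = 16 * Nat.card (zpowers z) := by
  rw [h.card_map (K := Bs A x) fun _ hb => (h.memB.1 hb).1, ← card_E0]
  congr 3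
  · ext σ
    exact ⟨fun ⟨a, ha, e⟩ => e ▸ (h.memB.1 ha).2.1, fun hσ => by
      obtain ⟨b, hb, e⟩ := h.liftE hσ
      exact ⟨⟨b, hb.1⟩, h.memB.2 hb, e⟩⟩
  · ext a
    exact ⟨fun ha => h.mem_zz (n := 1) ha.2 (by rw [pow_one, pow_two, h.sqB ha.1]),
      fun ha => ⟨h.memB.2 (h.zB0 ha), mem_sup_right ha⟩⟩

theorem cardW [Finite G] : Nat.card (Wt A) = 4 * Nat.card (zpowers z) := by
  rw [h.card_map (K := Wt A) fun _ hb => (h.memW.1 hb).1]
  congr 1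
  · rw [← SetLike.coe_sort_coe, Nat.card_coe_set_eq, show (((Wt A).subgroupOf _).map h.hom : Set _) =
      {1, w0, w1, w0 * w1} from ?_]
    · have := w0_ne
      have := w1_ne
      have := w1_ne_w0
      rw [Set.ncard_insert_of_notMem, Set.ncard_insert_of_notMem, Set.ncard_pair] <;>
        simp_all [eq_comm, mul_eq_one_iff_eq_inv, inv_of_sq (sq_E0 w1_mem)]
    · ext σ
      refine ⟨fun ⟨a, ha, e⟩ => e ▸ W_cases (h.WB0 ha).1.2.1 (h.WB0 ha).2, fun hσ => ?_⟩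
      have : σ ∈ E0 ∧ Commute σ c3 := by
        rcases hσ with rfl | rfl | rfl | rfl
        exacts [⟨one_mem _, Commute.one_left _⟩, ⟨w0_mem, w0_c3⟩, ⟨w1_mem, w1_c3⟩,
          ⟨mul_mem w0_mem w1_mem, Commute.mul_left w0_c3 w1_c3⟩]
      obtain ⟨b, hb, e⟩ := h.liftE this.1
      exact ⟨⟨b, hb.1⟩, h.W_of hb (e ▸ this.2), e⟩
  · congr 2
    ext a
    exact ⟨fun ha => h.mem_zz (n := 1) ha.2 (by rw [pow_one, pow_two, (h.memW.1 ha.1).2.2]),
      fun ha => ⟨zpowers_le.2 h.zW ha, mem_sup_right ha⟩⟩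

theorem irrB [Finite G] {D : Subgroup G} (h1 : Wt A ≤ D) (h2 : D ≤ Bs A x)
    (hy : y ∈ normalizer (D : Set G)) : D ≤ Wt A ∨ Bs A x ≤ D := by
  have h3 := Gold.TF.card_modEq_inf_centralizer (D := D) (j := 1) Nat.prime_three
    (by rw [pow_one, h.fx.ycube]) hy
  rw [show D ⊓ centralizer {y} = Wt A from le_antisymm (fun c hc =>
    h.memW.2 ⟨(h.memB.1 (h2 hc.1)).1, hc.2, h.sqB (h2 hc.1)⟩)
    fun c hc => ⟨h1 hc, (h.memW.1 hc).2.1⟩, h.cardW] at h3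
  have h4 := card_dvd_of_le h1
  have h5 := card_dvd_of_le h2
  by_cases e : Nat.card D ≤ Nat.card (Wt A)
  · exact .inl (eq_of_le_of_card_ge h1 e).ge
  refine .inr (eq_of_le_of_card_ge h2 ?_).ge
  rw [h.cardW] at h4 e
  rw [h.cardB] at h5 ⊢
  have h6 := Nat.le_of_dvd (by rcases h.card_zp with e | e <;> rw [e] <;> norm_num) h5
  unfold Nat.ModEq at h3
  generalize Nat.card D = m at *
  rcases h.card_zp with e' | e' <;> rw [e'] at h3 h4 h5 h6 e ⊢ <;> interval_cases m <;> simp_all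

theorem shift [Finite G] : ∃ u ∈ centralizer ({x} : Set G), u * y * u⁻¹ = y * x ∧
    u ∈ normalizer (A : Set G) ∧ ∀ w ∈ Wt A, w ∉ zpowers z → p (u * w * u⁻¹) ≠ p w := by
  obtain ⟨u, hu, e⟩ := h.shift' h.yC h.fx.ycube h.y_not (mem_zpowers x)
  refine ⟨u, hu, e, h.normA (by rw [mC'.1 hu]; exact h.xA) (by rw [e]; exact mul_mem h.yA h.xA),
    fun w hw hn e1 => ?_⟩
  have hw' := h.WB0 hw
  have e2 := congrArg p e
  rw [h.p_conj hu h.yC, h.p_mul y h.yC x xC, h.p_x, mul_one, h.py] at e2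
  rw [h.p_conj hu hw'.1.1] at e1
  obtain ⟨b, hb, a, ha, rfl⟩ := h.tri_dec hu (tri_of_fix (h.p_mem u hu) (mul_inv_eq_iff_eq_mul.1 e2)
    hw'.1.2.1 hw'.2 (fun e => hn (h.zz_of hw'.1.1 hw'.1.2.2 e)) (mul_inv_eq_iff_eq_mul.1 e1))
  have h1 := (mul_mem hb (h.yB0 (inv_mem hb))).2.2
  rw [show b * (y * b⁻¹ * y⁻¹) = x by
    calc b * (y * b⁻¹ * y⁻¹) = b * (a * y * a⁻¹) * b⁻¹ * y⁻¹ := by rw [h.A_comm ha h.yA]; group
      _ = b * a * y * (b * a)⁻¹ * y⁻¹ := by group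
      _ = x := by rw [e, mC.1 h.yC]; group] at h1
  exact h.x_ne (h.eq_one_zx (mem_zpowers x) h1)

end Nm

end Cfsg.Lib.J4T
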