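import Cfsg.Agent.J4T.TB
import Cfsg.Agent.SporChar.LargeXQuot
import Cfsg.Agent.SporChar.HexJ

/-! The group `Q N(⟨x⟩)` is of shape `2^(1+12).3.M₂₂.2`. -/

set_option autoImplicit false

namespace Cfsg.Lib.J4T

open Subgroup Cfsg.Lib.Spor Cfsg.Lib.SporChar Cfsg.Lib.Local Cfsg.Lib.SporChar.J4 Cfsg.Lib.Trans
  Cfsg.Lib.Spor.MP Equiv
open scoped commutatorElement Pointwise

variable {G : Type*} [Group G] {x z : G} {p : G → Perm GolayPt} {Q : Subgroup G}

theorem Six.cent_of_comm (h : Six x z p) {k : G}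
    (e : ∀ m ∈ centralizer ({x} : Set G), k * m * k⁻¹ * m⁻¹ ∈ zpowers x ⊔ zpowers z) :
    k * x * k⁻¹ = x := by
  have : ⁅centralizer ({x} : Set G), centralizer ({x} : Set G)⁆ ≤ centralizer ({k} : Set G) :=
    commutator_le.2 fun a ha b hb => by
      have c1 : Commute a (k * a * k⁻¹ * a⁻¹) := h.ker_comm (e a ha) ha
      have c2 : Commute b (k * a * k⁻¹ * a⁻¹) := h.ker_comm (e a ha) hb
      have c3 : Commute a (k * b * k⁻¹ * b⁻¹) := h.ker_comm (e b hb) ha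
      have c4 : Commute b (k * b * k⁻¹ * b⁻¹) := h.ker_comm (e b hb) hb
      have c5 : Commute (k * a * k⁻¹ * a⁻¹) (k * b * k⁻¹ * b⁻¹) :=
        h.ker_comm (e b hb) (h.ker_le (e a ha))
      generalize hu : k * a * k⁻¹ * a⁻¹ = u at c1 c2 c5
      generalize hv : k * b * k⁻¹ * b⁻¹ = v at c3 c4 c5
      have e1 : k * a * k⁻¹ = u * a := by rw [← hu]; group
      have e2 : k * b * k⁻¹ = v * b := by rw [← hv]; group
      refine mC.2 (mul_inv_eq_iff_eq_mul.1 ?_).symm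
      rw [commutatorElement_def]
      calc k * (a * b * a⁻¹ * b⁻¹) * k⁻¹
          = (k * a * k⁻¹) * (k * b * k⁻¹) * (k * a * k⁻¹)⁻¹ * (k * b * k⁻¹)⁻¹ := by group
        _ = u * (a * v * b * a⁻¹) * u⁻¹ * b⁻¹ * v⁻¹ := by rw [e1, e2]; group
        _ = (a * v) * b * a⁻¹ * b⁻¹ * v⁻¹ := by
          rw [← (((c1.mul_left c5.symm).mul_left c2).mul_left c1.inv_left).eq]; group
        _ = v * (a * b * a⁻¹ * b⁻¹) * v⁻¹ := by rw [c3.eq]; group
        _ = _ := by
          rw [← (((c3.mul_left c4).mul_left c3.inv_left).mul_left c4.inv_left).eq]; group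
  exact mul_inv_eq_iff_eq_mul.2 (mC.1 (this (h.perf Six.xC))).symm

theorem Six.exists_ab [Finite G] (h : Six x z p) [hQ : Q.Normal] (two : IsPGroup 2 Q)
    (zQ : z ∈ Q)
    (fac : ∀ g, ∃ q ∈ Q, ∃ k, (k * x * k⁻¹ = x ∨ k * x * k⁻¹ = x⁻¹) ∧ g = q * k)
    (inv : ∃ k, k * x * k⁻¹ = x⁻¹) : ∃ φ, Ab Q x φ := by
  set C := centralizer ({x} : Set G)
  set N := Q ⊔ zpowers x
  set M := Q ⊔ C
  have fix : ∀ q ∈ Q, q ∈ C → q ∈ zpowers z := fun q h1 h2 =>
    h.mem_zp_of_norm two (by rw [normalizer_eq_top]; exact le_top) h1 h2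
  have hCN : ∀ c ∈ C, c ∈ N ↔ c ∈ zpowers x ⊔ zpowers z := fun c hc => by
    constructor
    · intro h1
      obtain ⟨q, hq, w, hw, rfl⟩ := mem_sup_of_normal_left.1 h1
      exact mul_mem (mem_sup_right (fix q hq ((Subgroup.mul_mem_cancel_right _
        (h.ker_le (mem_sup_left hw))).1 hc))) (mem_sup_left hw)
    · exact fun h1 => (sup_le le_sup_right ((zpowers_le.2 zQ).trans le_sup_left) :
        zpowers x ⊔ zpowers z ≤ N) h1
  have hN : N.Normal := ⟨fun n hn g => by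
    obtain ⟨q, hq, k, e, rfl⟩ := fac g
    obtain ⟨q', hq', w, hw, rfl⟩ := mem_sup_of_normal_left.1 hn
    have := mul_mem (mul_mem (mem_sup_left hq : q ∈ N) (mul_mem
      (mem_sup_left (hQ.conj_mem q' hq' k)) (mem_sup_right
        ((mem_normalizer_iff.1 (h.mem_norm.2 e) w).1 hw)))) (mem_sup_left (inv_mem hq))
    convert this using 1
    group⟩
  have hnot : ∀ k, k * x * k⁻¹ = x⁻¹ → k ∉ M := fun k e hk => by
    obtain ⟨q, hq, c, hc, rfl⟩ := mem_sup_of_normal_left.1 hk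
    have h1 : x⁻¹ * x⁻¹ ∈ Q := by
      have := mul_mem hq (hQ.conj_mem _ (inv_mem hq) x)
      rw [← mC'.1 hc] at this
      convert this using 1
      rw [mC'.1 hc]
      nth_rewrite 1 [← e]
      rw [mul_inv_rev, ← mul_assoc, mul_assoc q c, mul_assoc q, mul_assoc q, mC'.1 hc]
      group
    refine h.not_mem_two two ?_
    have h2 : x = x⁻¹ * x⁻¹ * x ^ 3 := by simp [pow_succ, mul_assoc]
    rw [h2, h.cube, mul_one]; exact h1
  obtain ⟨k0, hk0⟩ := inv
  have hM : M.index = 2 := by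
    refine index_eq_two_iff.2 ⟨k0, fun g => ?_⟩
    obtain ⟨q, hq, k, e, rfl⟩ := fac g
    have hq' : q ∈ M := mem_sup_left hq
    rw [mul_assoc, Subgroup.mul_mem_cancel_left _ hq', Subgroup.mul_mem_cancel_left _ hq']
    rcases e with e | e
    · have : k ∈ M := mem_sup_right (mC'.2 e)
      exact Or.inr ⟨this, fun h1 => hnot k0 hk0 ((Subgroup.mul_mem_cancel_left _ this).1 h1)⟩
    · refine Or.inl ⟨mem_sup_right (mC'.2 ?_), hnot k e⟩
      calc k * k0 * x * (k * k0)⁻¹ = k * (k0 * x * k0⁻¹) * k⁻¹ := by group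
        _ = (k * x * k⁻¹)⁻¹ := by rw [hk0]; group
        _ = x := by rw [e, inv_inv]
  have := normal_of_index_eq_two hM
  have hNM : N ≤ M := sup_le_sup_left (zpowers_le.2 Six.xC) _
  let f : C →* M ⧸ N.subgroupOf M := (QuotientGroup.mk' _).comp (inclusion le_sup_right)
  have hf : Function.Surjective f := fun m => by
    obtain ⟨⟨m, hm⟩, rfl⟩ := QuotientGroup.mk_surjective m
    obtain ⟨q, hq, c, hc, rfl⟩ := mem_sup_of_normal_left.1 hm
    refine ⟨⟨c, hc⟩, QuotientGroup.eq.2 ?_⟩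
    show c⁻¹ * (q * c) ∈ N
    simpa [mul_assoc] using mem_sup_left (hQ.conj_mem q hq c⁻¹)
  have hk : f.ker = h.hom.ker := by
    ext c
    rw [h.ker_hom, mem_subgroupOf, ← hCN c c.2, MonoidHom.mem_ker]
    exact QuotientGroup.eq_one_iff _
  obtain ⟨e⟩ := nonempty_equiv_of_index_two hNM hM (fun g hg => by
      obtain ⟨q, hq, k, e, rfl⟩ := fac g
      refine mul_mem (mem_sup_left hq) (mem_sup_right (mC'.2 (h.cent_of_comm fun m hm => ?_)))
      refine (hCN _ (mul_mem (Six.conj_mem_C e hm) (inv_mem hm))).1 ?_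
      have := mul_mem (mul_mem (mem_sup_left (inv_mem hq) : q⁻¹ ∈ N) (hg m (mem_sup_right hm)))
        (mem_sup_left (hQ.conj_mem q hq m))
      convert this using 1
      group)
    ⟨((QuotientGroup.quotientKerEquivOfSurjective f hf).symm.trans
      (QuotientGroup.quotientMulEquivOfEq hk)).trans ((QuotientGroup.quotientKerEquivRange _).trans
        (MulEquiv.subgroupCongr h.range_hom))⟩
  obtain ⟨φ, h1, h2⟩ := exists_hom_of_equiv e
  refine ⟨φ, ab_of_ker two h1 (h2 ▸ le_sup_left) ?_ (h2 ▸ mem_sup_right (mem_zpowers x)) h.x3⟩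
  have h3 := Solv.card_sup_mul_card_inf_of_le_normalizer (H := zpowers x) (N := Q)
    (by rw [normalizer_eq_top]; exact le_top)
  have h4 : Q ⊓ zpowers x = ⊥ := eq_bot_iff.2 fun w hw => by
    rcases mem_zpowers_three h.x3 hw.2 with e | e | e
    · exact e
    · exact absurd (e ▸ hw.1) (h.not_mem_two two)
    · exact absurd (inv_mem_iff.1 (e ▸ hw.1)) (h.not_mem_two two)
  rw [h4, card_bot, mul_one, Nat.card_zpowers, h.x3] at h3
  rw [h2, h3, mul_comm]

theorem Six.sub (h : Six x z p) {X : Subgroup G} (hX : centralizer ({x} : Set G) ≤ X) :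
    Six (⟨x, hX Six.xC⟩ : X) ⟨z, hX h.zC⟩ fun a => p a := by
  have e : ∀ {a : G} (ha : a ∈ X) (c : X), c ∈ centralizer ({⟨a, ha⟩} : Set X) ↔
      (c : G) ∈ centralizer ({a} : Set G) := fun ha c => by
    rw [mC, mC, Subtype.ext_iff]; rfl
  refine ⟨by rw [← orderOf_coe]; exact h.x3, by rw [← orderOf_coe]; exact h.z2, (e _ _).2 h.zC,
    fun c hc => (e _ _).2 (h.cent ((e _ _).1 hc)), fun a => h.p_mem a,
    fun a ha b hb => h.p_mul a ((e _ _).1 ha) b ((e _ _).1 hb), fun c hc => ?_, fun σ hσ => ?_,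
    fun c hc => ?_⟩
  · rw [h.p_eq_one c ((e _ _).1 hc), ← mem_map_iff_mem X.subtype_injective, Subgroup.map_sup,
      MonoidHom.map_zpowers, MonoidHom.map_zpowers]
    rfl
  · obtain ⟨c, hc, e1⟩ := h.p_surj σ hσ
    exact ⟨⟨c, hX hc⟩, (e _ _).2 hc, e1⟩
  · rw [← mem_map_iff_mem X.subtype_injective, map_commutator, map_cent, inf_eq_right.2 hX]
    exact h.perf ((e _ _).1 hc)

theorem set0_janko [Finite G] (h : Set0 z x Q p) : IsOfJankoFourTypeWith z (zpowers x) := by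
  have hq : twoCoreOfCentralizer z = Q := h.eq_qOf.symm
  have hk : h.hom.ker = (Q ⊔ zpowers x).subgroupOf _ := by
    ext c; exact h.p_eq_one c c.2
  have hle : Q ⊔ zpowers x ≤ centralizer ({z} : Set G) := sup_le h.QH (zpowers_le.2 h.xH)
  have hn : ((Q ⊔ zpowers x).subgroupOf (centralizer ({z} : Set G))).Normal := hk ▸ inferInstance
  obtain ⟨e⟩ := nonempty_autEquiv
  rw [IsOfJankoFourTypeWith, hq, centralizer_zpowers_eq_sing]
  refine ⟨h.pre.ord, h.pre.isExtraspecial, h.cardQ,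
    inf_le_right.trans (h.pre.cent.trans h.pre.zpowers_le), ⟨Q ⊔ zpowers x, le_sup_left, hle,
      le_normalizer_of_normal_subgroupOf hle, ?_, ⟨hn, ⟨(QuotientGroup.quotientMulEquivOfEq
        hk.symm).trans ((QuotientGroup.quotientKerEquivRange _).trans
          ((MulEquiv.subgroupCongr h.ab.range).trans e))⟩⟩, le_sup_right⟩,
    by rw [Nat.card_zpowers, h.x3], le_antisymm (fun q hq => h.fix q hq.1 (mC.1 hq.2).symm)
      (zpowers_le.2 ⟨h.pre.mem, mC.2 (mC.1 h.xH).symm⟩), fun e => ?_, zpowers_le.2 h.comm⟩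
  · have := h.ab.card_ker
    rwa [hk, Nat.card_congr (subgroupOfEquivOfLe hle).toEquiv,
      Nat.card_congr (subgroupOfEquivOfLe h.QH).toEquiv] at this
  · obtain ⟨k, hk, e1⟩ := h.exists_inverts
    have h3 : k ∈ centralizer ({z} : Set G) ⊓ normalizer (zpowers x : Set G) := by
      refine ⟨hk, mem_normalizer_fintype fun y hy => ?_⟩
      obtain ⟨n, rfl⟩ := hy
      show k * x ^ n * k⁻¹ ∈ zpowers x
      rw [← conj_zpow, e1]
      exact zpow_mem (inv_mem (mem_zpowers _)) n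
    rw [e] at h3
    exact ne_inv_of_three h.x3 ((mC'.1 h3.2).symm.trans e1)

theorem Six.set0 [Finite G] (h : Six x z p) (pre : PreLX Q z) (hc : Nat.card Q = 2 ^ 13)
    (fac : ∀ g ∈ centralizer ({z} : Set G),
      ∃ q ∈ Q, ∃ k, (k * x * k⁻¹ = x ∨ k * x * k⁻¹ = x⁻¹) ∧ g = q * k)
    (inv : ∃ k, k * x * k⁻¹ = x⁻¹) : ∃ p', Set0 z x Q p' := by
  have hn : (Q.subgroupOf (centralizer ({z} : Set G))).Normal :=
    (normal_subgroupOf_iff_le_normalizer pre.le_cent).2 pre.norm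
  obtain ⟨φ, h1⟩ := (h.sub h.cent).exists_ab (Q := Q.subgroupOf _)
    (isPGroup_subgroupOf pre.isPGroup _) pre.mem (fun g => by
      obtain ⟨q, hq, k, e, e'⟩ := fac g g.2
      exact ⟨⟨q, pre.le_cent hq⟩, hq, ⟨k, h.normZ e⟩, e.imp Subtype.ext Subtype.ext,
        Subtype.ext e'⟩) (by
      obtain ⟨k, e⟩ := inv
      exact ⟨⟨k, h.normZ (Or.inr e)⟩, Subtype.ext e⟩)
  have e : qOf z = Q := by rw [qOf, h1.pCore_eq, map_subgroupOf_eq_of_le pre.le_cent]
  subst e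
  exact set0_of_ab pre hc h1 (fun q hq e => h.mem_zp_of_norm pre.isPGroup
    (h.cent.trans pre.norm) hq (mC.2 e.symm)) ((h.sub h.cent).perf Six.xC)

theorem sp_dec : ∀ i j k l : Fin 6, i ≠ j → sp i ^^^ sp j = sp k ^^^ sp l → k = i ∨ k = j := by
  decide

theorem hex_mem_of_cent [Finite G] {B Y : Subgroup G} {hx : G → Perm (Fin 6)}
    (h : Hex z x Q B Y hx) {k : G} (hk : k ∈ centralizer ({z} : Set G))
    (e : ∀ b ∈ B, k * b * k⁻¹ * b⁻¹ ∈ Q) : k ∈ Q ⊔ B ⊔ zpowers x := by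
  obtain ⟨hx', L, Φ, f⟩ := h.exists_frame
  have hY : k ∈ Y := h.norm k hk (mem_normalizer_fintype fun n hn => by
    obtain ⟨q, hq, b, hb, rfl⟩ := h.mem_QB.1 hn
    have := mul_mem (mul_mem (mem_sup_left ((mem_normalizer_iff.1 (h.pre.norm hk) q).1 hq) :
      _ ∈ Q ⊔ B) (mem_sup_left (e b hb))) (mem_sup_right hb)
    rwa [show k * (q * b) * k⁻¹ = k * q * k⁻¹ * (k * b * k⁻¹ * b⁻¹) * b by group])
  refine (f.hx_ker k hY).1 (Equiv.ext fun i => ?_)
  have key : ∀ j, i ≠ j → hx' k i = i ∨ hx' k i = j := fun j hij => by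
    obtain ⟨b, hb, h1⟩ := f.nb_surj (s := sp i ^^^ sp j) (by revert i j; decide)
    have h2 : NV Q B Φ b _ := ⟨b, hb, 1, one_mem _, mul_one b, h1⟩
    have hV := Hex.B_le_V (Q := Q) hb
    refine sp_dec i j _ _ hij ((f.nv_iff h2 (f.nv_conj hY hij h2)).2 (h.mem_W_of_mem_V
      (mul_mem (inv_mem hV) ((mem_normalizer_iff.1 (h.Y_normV hY) b).1 hV)) ?_))
    have := (mem_normalizer_iff.1 (h.Y_norm (h.BY (inv_mem hb))) _).1 (e b hb)
    convert this using 1
    group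
  have d : ∀ i : Fin 6, i ≠ i + 1 ∧ i ≠ i + 2 ∧ i + 1 ≠ i + 2 := by decide
  rcases key (i + 1) (d i).1 with h1 | h1
  · exact h1
  · exact (key (i + 2) (d i).2.1).resolve_right fun h2 => (d i).2.2 (h1.symm.trans h2)

end Cfsg.Lib.J4T
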