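import Mathlib

/-! Modules in characteristic two for an elementary abelian group of order nine extended by a
four-group. -/

set_option autoImplicit false

namespace Cfsg.Lib.J4T.Cal

variable {V : Type*} [AddCommGroup V] [Module (ZMod 2) V]

theorem ch {a b : V} (h : (1 : ZMod 2) • a = b) : a = b := by rwa [one_smul] at h

local macro "ch2" : tactic => `(tactic| (refine ch ?_; match_scalars <;> first | decide | ring))

local macro "lc " e:term : tactic => `(tactic| linear_combination (norm := ch2) $e:term)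

/-- The automorphisms of `V`. -/
abbrev Γ (V : Type*) [AddCommGroup V] [Module (ZMod 2) V] := V ≃ₗ[ZMod 2] V

/-- The norm map of an element of order three. -/
def nu (g : Γ V) (v : V) : V := v + g v + g (g v)

theorem nu_add (g : Γ V) (v w : V) : nu g (v + w) = nu g v + nu g w := by
  simp only [nu, map_add]; abel

theorem nu_zero (g : Γ V) : nu g 0 = 0 := by simp [nu]

theorem nu_fix {g : Γ V} {v : V} (h : g v = v) : nu g v = v := by
  simp only [nu, h]; ch2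

theorem nu_comm {g k : Γ V} (h : ∀ v, k (g v) = g (k v)) (v : V) : k (nu g v) = nu g (k v) := by
  simp only [nu, map_add, h]

theorem two (v : V) : v + v = 0 := by ch2

/-- Common fixed points. -/
def W (x y : Γ V) (v : V) : Prop := x v = v ∧ y v = v
/-- The component fixed by `x`. -/
def U1 (x y : Γ V) (v : V) : Prop := x v = v ∧ nu y v = 0
/-- The component fixed by `y`. -/
def U2 (x y : Γ V) (v : V) : Prop := y v = v ∧ nu x v = 0
/-- The component fixed by `y x`. -/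
def U3 (x y : Γ V) (v : V) : Prop := x (y v) = v ∧ nu x v = 0
/-- The component fixed by `y x⁻¹`. -/
def U4 (x y : Γ V) (v : V) : Prop := y v = x v ∧ nu x v = 0

/-- Two commuting elements of order three. -/
structure Pr (x y : Γ V) : Prop where
  x3 : ∀ v, x (x (x v)) = v
  y3 : ∀ v, y (y (y v)) = v
  c : ∀ v, y (x v) = x (y v)

variable {x y a s t : Γ V} {u ω ζ w' v : V}

theorem W.add {v w : V} (h : W x y v) (h' : W x y w) : W x y (v + w) :=
  ⟨by rw [map_add, h.1, h'.1], by rw [map_add, h.2, h'.2]⟩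

theorem U1.add {v w : V} (h : U1 x y v) (h' : U1 x y w) : U1 x y (v + w) :=
  ⟨by rw [map_add, h.1, h'.1], by rw [nu_add, h.2, h'.2, add_zero]⟩

theorem U1.zero : U1 x y 0 := ⟨map_zero _, nu_zero _⟩

theorem W.zero : W x y 0 := ⟨map_zero _, map_zero _⟩

namespace Pr

variable (h : Pr x y)
include h

theorem dec {C : V → Prop} (hC : ∀ a b, C a → C b → C (a + b)) (hx : ∀ a, C a → C (x a))
    (hy : ∀ a, C a → C (y a)) (hv : C v) : ∃ w u1 u2 u3 u4, W x y w ∧ U1 x y u1 ∧ U2 x y u2 ∧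
      U3 x y u3 ∧ U4 x y u4 ∧ C w ∧ C u1 ∧ C u2 ∧ C u3 ∧ C u4 ∧ v = w + u1 + u2 + u3 + u4 := by
  have n1 : ∀ a, C a → C (nu x a) := fun a ha => hC _ _ (hC _ _ ha (hx _ ha)) (hx _ (hx _ ha))
  have n2 : ∀ a, C a → C (nu y a) := fun a ha => hC _ _ (hC _ _ ha (hy _ ha)) (hy _ (hy _ ha))
  have n0 := n1 _ (n2 _ hv)
  refine ⟨nu x (nu y v), nu x v + nu x (nu y v), nu y v + nu x (nu y v),
    v + x (y v) + x (x (y (y v))) + nu x (nu y v), v + x (x (y v)) + x (y (y v)) + nu x (nu y v),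
    ⟨?_, ?_⟩, ⟨?_, ?_⟩, ⟨?_, ?_⟩, ⟨?_, ?_⟩, ⟨?_, ?_⟩, n0, hC _ _ (n1 _ hv) n0, hC _ _ (n2 _ hv) n0,
    hC _ _ (hC _ _ (hC _ _ hv (hx _ (hy _ hv))) (hx _ (hx _ (hy _ (hy _ hv))))) n0,
    hC _ _ (hC _ _ (hC _ _ hv (hx _ (hx _ (hy _ hv)))) (hx _ (hy _ (hy _ hv)))) n0, ?_⟩ <;>
  simp only [nu, map_add, h.c, h.x3, h.y3] <;> ch2

theorem dec' (v : V) : ∃ w u1 u2 u3 u4, W x y w ∧ U1 x y u1 ∧ U2 x y u2 ∧
    U3 x y u3 ∧ U4 x y u4 ∧ v = w + u1 + u2 + u3 + u4 := by
  obtain ⟨w, u1, u2, u3, u4, a0, a1, a2, a3, a4, -, -, -, -, -, e⟩ := h.dec (C := fun _ => True)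
    (fun _ _ _ _ => trivial) (fun _ _ => trivial) (fun _ _ => trivial) (v := v) trivial
  exact ⟨w, u1, u2, u3, u4, a0, a1, a2, a3, a4, e⟩

theorem y_U3 (hv : U3 x y v) : y v = x (x v) := by
  conv_rhs => rw [← hv.1]
  rw [h.x3]

theorem nu3 (hv : U3 x y v) : nu y v = 0 := by
  have := hv.2
  simp only [nu] at this
  simp only [nu, h.y_U3 hv, h.c, h.x3]
  lc this

theorem nu4 (hv : U4 x y v) : nu y v = 0 := by
  have := hv.2
  simpa only [nu, hv.1, h.c] using this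

theorem x_U3 (hv : U3 x y v) : U3 x y (x v) :=
  ⟨by rw [h.c, hv.1], by rw [← nu_comm fun _ => rfl, hv.2, map_zero]⟩

theorem x_U4 (hv : U4 x y v) : U4 x y (x v) :=
  ⟨by rw [h.c, hv.1], by rw [← nu_comm fun _ => rfl, hv.2, map_zero]⟩

theorem x_U2 (hv : U2 x y v) : U2 x y (x v) :=
  ⟨by rw [h.c, hv.1], by rw [← nu_comm fun _ => rfl, hv.2, map_zero]⟩

theorem dec2 {C : V → Prop} (hC : ∀ a b, C a → C b → C (a + b)) (hx : ∀ a, C a → C (x a))
    (hy : ∀ a, C a → C (y a)) (hv : C v) (h0 : nu y v = 0) : ∃ u1 u3 u4, U1 x y u1 ∧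
      U3 x y u3 ∧ U4 x y u4 ∧ C u1 ∧ C u3 ∧ C u4 ∧ v = u1 + u3 + u4 := by
  obtain ⟨w, u1, u2, u3, u4, a0, a1, a2, a3, a4, -, b1, -, b3, b4, e⟩ := h.dec hC hx hy hv
  refine ⟨u1, u3, u4, a1, a3, a4, b1, b3, b4, ?_⟩
  rw [e, nu_add, nu_add, nu_add, nu_add, nu_fix a0.2, a1.2, nu_fix a2.1, h.nu3 a3, h.nu4 a4] at h0
  lc e + h0

end Pr

/-- The action of `A`, a four-group, and two elements normalising `A`. -/
structure Hy (x y a s t : Γ V) (u ω ζ w' : V) : Prop extends Pr x y where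
  i1 : ∀ v v', U1 x y v → U1 x y v' → v ≠ 0 → v' = 0 ∨ v' = v ∨ v' = y v ∨ v' = y (y v)
  i2 : ∀ v v', U2 x y v → U2 x y v' → v ≠ 0 → v' = 0 ∨ v' = v ∨ v' = x v ∨ v' = x (x v)
  sx : ∀ v, s (x v) = x (s v)
  sy : ∀ v, s (y v) = x (y (s v))
  tx : ∀ v, t (x v) = x (x (t v))
  ty : ∀ v, t (y v) = y (t v)
  aa : ∀ v, a (a v) = v
  ay : ∀ v, a (y v) = y (a v)
  ac : ∀ v, a (x (a (x (x v)))) = x (a (x (x (a v))))
  a3 : ∀ v, x (x (a (x v))) = a (x (a (x (x v))))
  ta : ∀ v, t (a v) = a (t v)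
  uU : U2 x y u
  u0 : u ≠ 0
  ωW : W x y ω
  ζW : W x y ζ
  wW : W x y w'
  aζ : a ζ = ζ
  aω0 : a ω = ω ∨ a ω = ω + ζ
  aw' : a w' = w' + u + ω
  gen : ∀ w, W x y w → ∃ c d e : ZMod 2, w = c • ζ + d • ω + e • w'

/-- The axis case. -/
def Ax (x y a : Γ V) : Prop := (∀ v, U3 x y v → a v = v) ∧ (∀ v, U4 x y v → a v = v) ∧
  ∀ v, U1 x y v → nu x (a v + v) = 0

/-- The centre case. -/
def Ce (x y a : Γ V) : Prop := (∀ v, nu y v = 0 → U1 x y (a v + v)) ∧
  (∀ v, U1 x y v → a v = v) ∧ ∀ v, U4 x y v → v ≠ 0 → a v ≠ v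

theorem z2 (c : ZMod 2) : c = 0 ∨ c = 1 := by revert c; decide

namespace Hy

variable (h : Hy x y a s t u ω ζ w')
include h

theorem aω : a ω = ω := by
  rcases h.aω0 with e | e
  · exact e
  have h1 := h.a3 ω
  simp only [h.ωW.1, e, map_add, h.ζW.1, h.aζ] at h1
  lc e + h1

theorem au : a u = u := by
  have h1 := h.aa w'
  rw [h.aw', map_add, map_add, h.aw', h.aω] at h1
  lc h1

theorem axu : a (x u) = x u + ω := by
  have h1 := h.a3 w'
  have h2 := h.uU.2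
  simp only [h.wW.1, h.aw', map_add, h.ωW.1, h.aω, nu] at h1 h2
  lc h1 + h2

theorem aW (hv : W x y v) : a v = v ∨ a v = v + u + ω := by
  obtain ⟨c, d, e, rfl⟩ := h.gen v hv
  simp only [map_add, map_smul, h.aζ, h.aω, h.aw']
  rcases z2 e with rfl | rfl
  · left; simp
  · right; module

theorem aU2 (hv : U2 x y v) : a v = v ∨ a v = v + ω := by
  have h2 := h.uU.2
  rcases h.i2 u v h.uU hv h.u0 with rfl | rfl | rfl | rfl
  · simp
  · exact .inl h.au
  · exact .inr h.axu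
  · right
    have : x (x u) = u + x u := by simp only [nu] at h2; lc h2
    rw [this, map_add, h.au, h.axu]; abel

theorem s_W (hv : W x y v) : W x y (s v) := by
  have h1 : x (s v) = s v := by rw [← h.sx, hv.1]
  refine ⟨h1, x.injective ?_⟩
  rw [← h.sy, hv.2, h1]

theorem s_U1 (hv : U1 x y v) : U1 x y (s v) := by
  have h1 : x (s v) = s v := by rw [← h.sx, hv.1]
  have h2 := congrArg s hv.2
  refine ⟨h1, ?_⟩
  simpa only [nu, map_add, h.sy, ← h.c, h1, map_zero] using h2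

theorem nu_s (v : V) : nu x (s v) = s (nu x v) := (nu_comm h.sx v).symm

theorem s_U2 (hv : U2 x y v) : U3 x y (s v) :=
  ⟨by rw [← h.sy, hv.1], by rw [h.nu_s, hv.2, map_zero]⟩

theorem s_U3 (hv : U3 x y v) : U4 x y (s v) :=
  ⟨by
    have := congrArg (fun m => x (s m)) hv.1
    simpa only [h.sx, h.sy, h.x3] using this, by rw [h.nu_s, hv.2, map_zero]⟩

theorem s_U4 (hv : U4 x y v) : U2 x y (s v) :=
  ⟨x.injective (by rw [← h.sy, hv.1, h.sx]), by rw [h.nu_s, hv.2, map_zero]⟩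

theorem inv : (∀ v, s.symm (x v) = x (s.symm v)) ∧ ∀ v, s.symm (x (y v)) = y (s.symm v) :=
  ⟨fun v => s.injective (by rw [h.sx]; simp), fun v => s.injective (by rw [h.sy]; simp)⟩

theorem si_U3 (hv : U3 x y v) : ∃ m, U2 x y m ∧ s m = v :=
  ⟨s.symm v, ⟨by rw [← h.inv.2, hv.1], by rw [← nu_comm h.inv.1, hv.2, map_zero]⟩, by simp⟩

theorem si_U4 (hv : U4 x y v) : ∃ m, U3 x y m ∧ s m = v :=
  ⟨s.symm v, ⟨by rw [← h.inv.2, ← h.inv.1, hv.1, h.x3],
    by rw [← nu_comm h.inv.1, hv.2, map_zero]⟩, by simp⟩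

theorem si_U2 (hv : U2 x y v) : ∃ m, U4 x y m ∧ s m = v :=
  ⟨s.symm v, ⟨by rw [← h.inv.2, ← h.inv.1, hv.1],
    by rw [← nu_comm h.inv.1, hv.2, map_zero]⟩, by simp⟩

theorem si_W (hv : W x y v) : ∃ m, W x y m ∧ s m = v :=
  ⟨s.symm v, ⟨by rw [← h.inv.1, hv.1], by rw [← h.inv.2, hv.2, hv.1]⟩, by simp⟩

theorem si_U1 (hv : U1 x y v) : ∃ m, U1 x y m ∧ s m = v := by
  have h1 : ∀ m, x m = m → s.symm (y m) = y (s.symm m) := fun m hm => by
    rw [← h.inv.2, ← h.c, hm]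
  refine ⟨s.symm v, ⟨by rw [← h.inv.1, hv.1], ?_⟩, by simp⟩
  rw [nu, ← h1 v hv.1, ← h1 _ (by rw [← h.c, hv.1]), ← map_add, ← map_add]
  exact (congrArg s.symm hv.2).trans (map_zero _)

theorem aa' (v : V) : x (a (x (x (x (a (x (x v))))))) = v := by rw [h.x3, h.aa, h.x3]

theorem dich : Ax x y a ∨ Ce x y a := by
  let C : V → Prop := fun v => a v = v ∧ a (x v) = x v ∧ a (x (x v)) = x (x v)
  have cA : ∀ v w, C v → C w → C (v + w) := fun v w h1 h2 => by
    simp only [C, map_add, h1.1, h1.2.1, h1.2.2, h2.1, h2.2.1, h2.2.2, and_self]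
  have cx : ∀ v, C v → C (x v) := fun v h1 => ⟨h1.2.1, h1.2.2, by rw [h.x3, h1.1]⟩
  have cy : ∀ v, C v → C (y v) := fun v h1 => by
    simp only [C, ← h.c, h.ay, h1.1, h1.2.1, h1.2.2, and_self]
  have ct : ∀ v, C v → C (t v) := fun v h1 => by
    have e : x (t v) = t (x (x v)) := by rw [h.tx, h.tx, h.x3]
    exact ⟨by rw [← h.ta, h1.1], by rw [e, ← h.ta, h1.2.2], by rw [← h.tx, ← h.ta, h1.2.1]⟩
  have c0 : C 0 := by simp [C]
  have mk : ∀ v, a v = v → x (a (x (x v))) = v → C v := fun v h1 h2 => by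
    have h3 := h.a3 v
    rw [h2, h1] at h3
    refine ⟨h1, ?_, ?_⟩
    · simpa only [h.x3] using congrArg x h3
    · simpa only [h.x3] using congrArg (fun m => x (x m)) h2
  have irr : ∀ {U : V → Prop} {g : Γ V}, (∀ v, C v → C (g v)) → (∀ v v', U v → U v' → v ≠ 0 →
      v' = 0 ∨ v' = v ∨ v' = g v ∨ v' = g (g v)) → ∀ v v', U v → U v' → v ≠ 0 → C v → C v' := by
    intro U g hg hi v v' h1 h2 h3 h4
    rcases hi v v' h1 h2 h3 with rfl | rfl | rfl | rfl
    exacts [c0, h4, hg _ h4, hg _ (hg _ h4)]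
  have tr : ∀ {U U' : V → Prop}, (∀ v, U' v → ∃ m, U m ∧ s m = v) → (∀ v v', U v → U v' → v ≠ 0 →
      v' = 0 ∨ v' = v ∨ v' = x v ∨ v' = x (x v)) → ∀ v v', U' v → U' v' → v ≠ 0 →
      v' = 0 ∨ v' = v ∨ v' = x v ∨ v' = x (x v) := by
    intro U U' hU hi v v' h1 h2 h3
    obtain ⟨m, a1, rfl⟩ := hU v h1
    obtain ⟨m', a2, rfl⟩ := hU v' h2
    rcases hi m m' a1 a2 (fun e => h3 (by rw [e, map_zero])) with rfl | rfl | rfl | rfl <;>
      simp [h.sx]
  have i3 := tr (fun v => h.si_U3) h.i2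
  have i4 := tr (fun v => h.si_U4) i3
  let σ : V → V := fun v => v + a v + x (a (x (x v))) + x (x (a (x v)))
  have σC : ∀ v, C (σ v) := fun v => mk _
    (by simp only [σ, map_add, h.a3, h.aa]; abel)
    (by
      simp only [σ, h.a3]
      simp only [map_add]
      rw [← h.ac v, ← h.ac (x (a (x (x v)))), h.aa']
      abel)
  have σx : ∀ v, σ (x v) = x (σ v) := fun v => by simp only [σ, map_add, h.x3]; abel
  have σy : ∀ v, σ (y v) = y (σ v) := fun v => by simp only [σ, map_add, h.ay, ← h.c]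
  have σa : ∀ v w, σ (v + w) = σ v + σ w := fun v w => by simp only [σ, map_add]; abel
  have σ0 : σ 0 = 0 := by simp [σ]
  have σc : ∀ v, C v → σ v = 0 := fun v h1 => by
    simp only [σ, h1.1, h1.2.1, h1.2.2, h.x3]; ch2
  have σz : ∀ {U : V → Prop}, (∀ v, U v → U (σ v)) → (∀ v v', U v → U v' → v ≠ 0 → C v → C v') →
      ∀ v, U v → σ v = 0 := fun hU hi v hv => by
    by_contra e
    exact e (σc v (hi _ v (hU v hv) hv e (σC v)))
  have z1 := σz (U := U1 x y) (fun v hv => ⟨by rw [← σx, hv.1], by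
    rw [nu, ← σy, ← σy, ← σa, ← σa]; exact (congrArg σ hv.2).trans σ0⟩) (irr cy h.i1)
  have nx : ∀ v, nu x v = 0 → nu x (σ v) = 0 := fun v hv => by
    rw [nu, ← σx, ← σx, ← σa, ← σa]; exact (congrArg σ hv).trans σ0
  have z3 := σz (U := U3 x y) (fun v hv => ⟨by rw [← σy, ← σx, hv.1], nx v hv.2⟩) (irr cx i3)
  have z4 := σz (U := U4 x y) (fun v hv => ⟨by rw [← σy, ← σx, hv.1], nx v hv.2⟩) (irr cx i4)
  have d2 := fun v => h.dec2 (C := fun _ => True) (fun _ _ _ _ => trivial) (fun _ _ => trivial)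
    (fun _ _ => trivial) (v := v) trivial
  have q : ∀ v, nu y v = 0 → C (a v + v) ∧ nu y (a v + v) = 0 := fun v hv => by
    have h1 : σ v = 0 := by
      obtain ⟨u1, u3, u4, a1, a3, a4, -, -, -, rfl⟩ := d2 v hv
      rw [σa, σa, z1 _ a1, z3 _ a3, z4 _ a4]; simp
    refine ⟨mk _ (by rw [map_add, h.aa, add_comm]) ?_, by
      rw [nu_add, ← nu_comm h.ay, hv, map_zero, add_zero]⟩
    simp only [σ, h.a3, h.ac] at h1
    simp only [map_add]
    lc h1
  have t3 : ∀ v, U3 x y v → U4 x y (t v) := fun v hv => ⟨by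
      rw [← h.ty, h.y_U3 hv, h.tx, h.tx, h.x3], by
      have := congrArg t hv.2
      simp only [nu, map_add, h.tx, h.x3, map_zero] at this ⊢
      lc this⟩
  have t4 : ∀ v, U4 x y v → U3 x y (t v) := fun v hv => ⟨by
      rw [← h.ty, hv.1, h.tx, h.x3], by
      have := congrArg t hv.2
      simp only [nu, map_add, h.tx, h.x3, map_zero] at this ⊢
      lc this⟩
  have tn : ∀ v, v ≠ 0 → t v ≠ 0 := fun v hv e => hv (t.injective (by rw [e, map_zero]))
  by_cases hA : ∃ v, U3 x y v ∧ v ≠ 0 ∧ C v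
  · obtain ⟨v, h1, h2, h3⟩ := hA
    refine .inl ⟨fun m hm => (irr cx i3 v m h1 hm h2 h3).1,
      fun m hm => (irr cx i4 _ m (t3 v h1) hm (tn v h2) (ct v h3)).1, fun m hm => ?_⟩
    obtain ⟨u1, u3, u4, a1, a3, a4, b1, -, -, e⟩ := h.dec2 cA cx cy (q m hm.2).1 (q m hm.2).2
    by_cases e1 : u1 = 0
    · rw [e, e1, zero_add, nu_add, a3.2, a4.2, add_zero]
    · rw [(irr cy h.i1 _ m a1 hm e1 b1).1, two, nu_zero]
  · have n4 : ∀ v, U4 x y v → C v → v = 0 := fun v h1 h2 => by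
      by_contra e; exact hA ⟨_, t4 v h1, tn v e, ct v h2⟩
    have k : ∀ v, nu y v = 0 → U1 x y (a v + v) := fun v hv => by
      obtain ⟨u1, u3, u4, a1, a3, a4, -, b3, b4, e⟩ := h.dec2 cA cx cy (q v hv).1 (q v hv).2
      have e3 : u3 = 0 := by by_contra e; exact hA ⟨_, a3, e, b3⟩
      rw [e, e3, n4 _ a4 b4, add_zero, add_zero]; exact a1
    have n5 : ∀ v, U4 x y v → v ≠ 0 → a v ≠ v := fun v h1 h2 e => h2 (n4 v h1 ⟨e,
      by rw [← h1.1, h.ay, e], by rw [← (h.x_U4 h1).1, ← h1.1, h.ay, h.ay, e]⟩)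
    refine .inr ⟨k, fun m hm => ?_, n5⟩
    have h1 := h.s_U3 (h.s_U2 h.uU)
    have h2 : s (s u) ≠ 0 := by simpa using h.u0
    refine (irr cy h.i1 _ m (k _ (h.nu4 h1)) hm (fun e => n5 _ h1 h2 ?_) (q _ (h.nu4 h1)).1).1
    lc e

omit h in
/-- The conjugate of `a` by `s`. -/
theorem bs (v : V) : (s * a * s⁻¹) (s v) = s (a v) := by simp

/-- The submodules controlling two conjugate involutions. -/
theorem ctrl : ∃ V' J : Submodule (ZMod 2) V, (∀ j ∈ J, U1 x y j) ∧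
    (∀ v, W x y v ∨ U2 x y v ∨ U3 x y v → v ∈ V') ∧ J ≤ V' ∧
    (∀ v, U3 x y v → a v + v ∈ J) ∧ (∀ v, U2 x y v → (s * a * s⁻¹) v + v ∈ J) ∧
    ∀ g, g = a ∨ g = s * a * s⁻¹ → (∀ v, g v + v ∈ V') ∧ (∀ j ∈ J, g j = j) ∧
      ∀ v ∈ V', ∃ j ∈ J, ∃ w, W x y w ∧ ∃ c d : ZMod 2, g v + v = j + w + c • u + d • s u := by
  have aB : ∀ w u2, W x y w → U2 x y u2 → ∃ m, W x y m ∧ ∃ c : ZMod 2,
      a w + w + (a u2 + u2) = m + c • u := fun w u2 h1 h2 => by
    rcases h.aW h1 with e | e <;> rcases h.aU2 h2 with e' | e' <;> rw [e, e']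
    · exact ⟨0, W.zero, 0, by ch2⟩
    · exact ⟨ω, h.ωW, 0, by ch2⟩
    · exact ⟨ω, h.ωW, 1, by ch2⟩
    · exact ⟨0, W.zero, 1, by ch2⟩
  rcases h.dich with ⟨h3, h4, h1⟩ | ⟨h1, h2, -⟩
  · let V' : Submodule (ZMod 2) V :=
      { carrier := {v | y (nu x v) = nu x v}
        add_mem' := fun k1 k2 => by
          simp only [Set.mem_ofPred_eq, nu_add, map_add] at k1 k2 ⊢; rw [k1, k2]
        zero_mem' := by simp [nu_zero]
        smul_mem' := fun c v hv => by rcases z2 c with rfl | rfl <;> simp_all [nu_zero] }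
    have m : ∀ {v}, v ∈ V' ↔ y (nu x v) = nu x v := Iff.rfl
    have mW : ∀ v, W x y v → v ∈ V' := fun v hv => by rw [m, nu_fix hv.1, hv.2]
    have mN : ∀ v, nu x v = 0 → v ∈ V' := fun v hv => by rw [m, hv, map_zero]
    have ms : ∀ v, s v ∈ V' ↔ v ∈ V' := fun v => by
      have e : x (nu x v) = nu x v := by simp only [nu, map_add, h.x3]; abel
      rw [m, m, h.nu_s, ← x.injective.eq_iff, ← h.sy, ← h.sx, e, s.injective.eq_iff]
    have A1 : ∀ v, a v + v ∈ V' := fun v => by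
      obtain ⟨w, u1, u2, u3, u4, a0, a1, a2, a3, a4, rfl⟩ := h.dec' v
      obtain ⟨m, b1, c, e⟩ := aB w u2 a0 a2
      have : a (w + u1 + u2 + u3 + u4) + (w + u1 + u2 + u3 + u4) = m + c • u + (a u1 + u1) := by
        simp only [map_add, h3 _ a3, h4 _ a4]; lc e
      rw [this]
      exact add_mem (add_mem (mW _ b1) (V'.smul_mem _ (mN _ h.uU.2))) (mN _ (h1 _ a1))
    have A2 : ∀ v ∈ V', ∃ w, W x y w ∧ ∃ c : ZMod 2, a v + v = w + c • u := fun v hv => by
      obtain ⟨w, u1, u2, u3, u4, a0, a1, a2, a3, a4, rfl⟩ := h.dec' v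
      obtain ⟨m', b1, c, e⟩ := aB w u2 a0 a2
      rw [m, nu_add, nu_add, nu_add, nu_add, nu_fix a0.1, nu_fix a1.1, a2.2, a3.2, a4.2, add_zero,
        add_zero, add_zero, map_add, a0.2, add_right_inj] at hv
      have e1 := a1.2
      rw [nu_fix hv] at e1
      exact ⟨m', b1, c, by simp only [map_add, h3 _ a3, h4 _ a4, e1, map_zero]; lc e⟩
    refine ⟨V', ⊥, fun j hj => (Submodule.mem_bot _).1 hj ▸ U1.zero,
      fun v hv => hv.elim (mW v) fun hv => mN v (hv.elim (·.2) (·.2)), bot_le,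
      fun v hv => by rw [h3 v hv, two]; exact zero_mem _, fun v hv => ?_, ?_⟩
    · obtain ⟨m, b, rfl⟩ := h.si_U2 hv
      rw [bs, h4 m b, two]; exact zero_mem _
    rintro g (rfl | rfl)
    · refine ⟨A1, fun j hj => by rw [(Submodule.mem_bot _).1 hj, map_zero], fun v hv => ?_⟩
      obtain ⟨w, b, c, e⟩ := A2 v hv
      exact ⟨0, zero_mem _, w, b, c, 0, by rw [e]; simp⟩
    · refine ⟨fun v => ?_, fun j hj => by rw [(Submodule.mem_bot _).1 hj, map_zero], fun v hv => ?_⟩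
      · obtain ⟨v, rfl⟩ := s.surjective v
        rw [bs, ← map_add, ms]; exact A1 v
      · obtain ⟨v, rfl⟩ := s.surjective v
        obtain ⟨w, b, c, e⟩ := A2 v ((ms v).1 hv)
        exact ⟨0, zero_mem _, s w, h.s_W b, 0, c, by rw [bs, ← map_add, e]; simp⟩
  · let J : Submodule (ZMod 2) V :=
      { carrier := {v | U1 x y v}
        add_mem' := U1.add
        zero_mem' := U1.zero
        smul_mem' := fun c v hv => by rcases z2 c with rfl | rfl <;> simp_all [U1.zero] }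
    have A2 : ∀ v, ∃ j, U1 x y j ∧ ∃ w, W x y w ∧ ∃ c : ZMod 2, a v + v = j + w + c • u := fun v => by
      obtain ⟨w, u1, u2, u3, u4, a0, a1, a2, a3, a4, rfl⟩ := h.dec' v
      obtain ⟨m', b1, c, e⟩ := aB w u2 a0 a2
      exact ⟨_, (h1 _ (h.nu3 a3)).add (h1 _ (h.nu4 a4)), m', b1, c, by
        simp only [map_add, h2 _ a1]; lc e⟩
    refine ⟨⊤, J, fun j hj => hj, fun _ _ => trivial, le_top, fun v hv => h1 v (h.nu3 hv),
      fun v hv => ?_, ?_⟩
    · obtain ⟨m, b, rfl⟩ := h.si_U2 hv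
      rw [bs, ← map_add]; exact h.s_U1 (h1 m (h.nu4 b))
    rintro g (rfl | rfl)
    · refine ⟨fun _ => trivial, h2, fun v _ => ?_⟩
      obtain ⟨j, b0, w, b, c, e⟩ := A2 v
      exact ⟨j, b0, w, b, c, 0, by rw [e]; simp⟩
    · refine ⟨fun _ => trivial, fun j hj => ?_, fun v _ => ?_⟩
      · obtain ⟨m, b, rfl⟩ := h.si_U1 hj
        rw [bs, h2 m b]
      · obtain ⟨v, rfl⟩ := s.surjective v
        obtain ⟨j, b0, w, b, c, e⟩ := A2 v
        exact ⟨s j, h.s_U1 b0, s w, h.s_W b, 0, c, by rw [bs, ← map_add, e]; simp⟩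

theorem three_dvd (h1 : a (s ω) ≠ s ω) (h2 : (s * a * s⁻¹) ω ≠ ω) {n : ℕ}
    (hn : (a * (s * a * s⁻¹)) ^ n = 1) : 3 ∣ n := by
  obtain ⟨V', J, j1, -, -, j3, j2, hg⟩ := h.ctrl
  set b := s * a * s⁻¹ with hb
  have e1 := (h.aW (h.s_W h.ωW)).resolve_left h1
  have e2 : b ω = ω + s u + s ω := by
    obtain ⟨m, a1, e⟩ := h.si_W h.ωW
    rcases h.aW a1 with e' | e'
    · exact absurd (by rw [← e, bs, e']) h2
    · conv_lhs => rw [← e, bs, e', map_add, map_add, e]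
  have ja := (hg a (.inl rfl)).2.1
  have jb := (hg b (.inr rfl)).2.1
  have k1 := j3 _ (h.s_U2 h.uU)
  have k2 := j2 _ h.uU
  generalize hk1 : a (s u) + s u = i1 at k1
  generalize hk2 : b u + u = i2 at k2
  have bu : b (s u) = s u := by rw [bs, h.au]
  have bω : b (s ω) = s ω := by rw [bs, h.aω]
  have au' : a (s u) = s u + i1 := by lc hk1
  have bu' : b u = u + i2 := by lc hk2
  have gp : (a * b) (u + ω) = s u + s ω + (i1 + i2) := by
    simp only [LinearEquiv.mul_apply, map_add, bu', e2, au', e1, h.au, h.aω, ja _ k2]; ch2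
  have gq : (a * b) (s u + s ω) = u + ω + (s u + s ω) + i1 := by
    simp only [LinearEquiv.mul_apply, map_add, bu, bω, au', e1]; ch2
  have gj : ∀ j ∈ J, (a * b) j = j := fun j hj => by rw [LinearEquiv.mul_apply, jb j hj, ja j hj]
  generalize a * b = g at *
  generalize hp : u + ω = p at gp gq
  generalize hq : s u + s ω = q at gp gq
  have g3 : ∀ m, ∃ j ∈ J, (g ^ (3 * m)) p = p + j := fun m => by
    induction m with
    | zero => exact ⟨0, zero_mem _, by simp⟩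
    | succ m ih =>
      obtain ⟨j, hj, e⟩ := ih
      refine ⟨j, hj, ?_⟩
      rw [show 3 * (m + 1) = 3 * m + 1 + 1 + 1 by ring, pow_succ', pow_succ', pow_succ']
      simp only [LinearEquiv.mul_apply, e, map_add, gp, gj _ hj, gq, gj _ k2, gj _ k1]
      ch2
  obtain ⟨j, hj, e⟩ := g3 (n / 3)
  have su := h.s_U2 h.uU
  have np : nu x p = ω := by rw [← hp, nu_add, h.uU.2, nu_fix h.ωW.1, zero_add]
  have nq : nu x q = s ω := by rw [← hq, nu_add, su.2, nu_fix (h.s_W h.ωW).1, zero_add]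
  by_contra h3
  have : n = 3 * (n / 3) + 1 ∨ n = 3 * (n / 3) + 1 + 1 := by omega
  rcases this with e' | e'
  · rw [e', pow_succ'] at hn
    have e3 := congrArg (fun k : Γ V => k p) hn
    simp only [LinearEquiv.mul_apply, e, map_add g p, gp, gj _ hj, LinearEquiv.coe_one,
      id] at e3
    have e4 := congrArg (nu x) e3
    have a1 := (j1 _ (add_mem (add_mem k1 k2) hj)).1
    rw [add_assoc, nu_add, nq, nu_fix a1, np] at e4
    have e5 : s u = u := by lc e3 + e4 + hp + hq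
    have e6 := su.1
    rw [e5, h.uU.1] at e6
    exact h.u0 ((nu_fix e6).symm.trans h.uU.2)
  · rw [e', pow_succ', pow_succ'] at hn
    have e3 := congrArg (fun k : Γ V => k p) hn
    simp only [LinearEquiv.mul_apply, e, map_add, gp, gj _ hj, LinearEquiv.coe_one,
      id, gq, gj _ k1, gj _ k2] at e3
    have e4 : q = i2 + j := by lc e3
    have e5 := congrArg (nu x) e4
    rw [nq, nu_fix (j1 _ (add_mem k2 hj)).1] at e5
    exact h.u0 (s.injective (by rw [map_zero]; lc e4 + e5 + hq))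

theorem card_le [Finite V] {n : ℕ} {g : Γ V} (e : (a * (s * a * s⁻¹)) ^ n = g)
    (g3 : ∀ v, g (g (g v)) = v) :
    Nat.card V ≤ Nat.card {v // g v = v} * (Nat.card {v // W x y v} * 4) := by
  obtain ⟨V', J, -, v1, v2, -, -, hg⟩ := h.ctrl
  have hS : ∀ j ∈ J, ∀ w, W x y w → ∀ c d : ZMod 2, j + w + c • u + d • s u ∈ V' :=
    fun j hj w hw c d => add_mem (add_mem (add_mem (v2 hj) (v1 _ (.inl hw)))
      (V'.smul_mem _ (v1 _ (.inr (.inl h.uU))))) (V'.smul_mem _ (v1 _ (.inr (.inr (h.s_U2 h.uU)))))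
  let Φ : Γ V → Prop := fun g => (∀ v, g v + v ∈ V') ∧ (∀ j ∈ J, g j = j) ∧
      ∀ v ∈ V', ∃ j ∈ J, ∃ w, W x y w ∧ ∃ c d : ZMod 2, g v + v = j + w + c • u + d • s u
  have Φm : ∀ g k, Φ g → Φ k → Φ (g * k) := fun g k h1 h2 => by
    refine ⟨fun v => ?_, fun j hj => by rw [LinearEquiv.mul_apply, h2.2.1 j hj, h1.2.1 j hj],
      fun v hv => ?_⟩
    · have := add_mem (h1.1 (k v)) (h2.1 v)
      rwa [show g (k v) + k v + (k v + v) = (g * k) v + v by rw [LinearEquiv.mul_apply]; ch2] at this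
    · obtain ⟨j, a1, w, a2, c, d, e1⟩ := h2.2.2 v hv
      have a3 : k v ∈ V' := by
        rw [show k v = v + (k v + v) by ch2]; exact add_mem hv (h2.1 v)
      obtain ⟨j', b1, w', b2, c', d', e2⟩ := h1.2.2 _ a3
      exact ⟨j + j', add_mem a1 b1, w + w', a2.add b2, c + c', d + d', by
        rw [LinearEquiv.mul_apply, add_smul, add_smul]
        generalize c • u = m1, c' • u = m2, d • s u = m3, d' • s u = m4 at *
        lc e1 + e2⟩
  have Φg : Φ g := by
    rw [← e]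
    clear e
    induction n with
    | zero => exact ⟨fun v => by simp [two], fun j _ => rfl,
        fun v _ => ⟨0, zero_mem _, 0, W.zero, 0, 0, by simp [two]⟩⟩
    | succ n ih => rw [pow_succ]; exact Φm _ _ ih (Φm _ _ (hg _ (.inl rfl)) (hg _ (.inr rfl)))
  let pr : V → V := fun m => g m + g (g m)
  have := Nat.card_le_card_of_surjective
    (fun q : {v // g v = v} × {v // W x y v} × ZMod 2 × ZMod 2 =>
      q.1.1 + pr (q.2.1.1 + q.2.2.1 • u + q.2.2.2 • s u)) fun v => by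
      have a1 : pr v ∈ V' := by rw [show pr v = g (g v) + g v from add_comm _ _]; exact Φg.1 _
      have a2 : g (pr v) ∈ V' := by
        rw [show g (pr v) = pr v + (g (pr v) + pr v) by ch2]; exact add_mem a1 (Φg.1 _)
      obtain ⟨j, b1, w, b2, c, d, e1⟩ := Φg.2.2 _ a2
      refine ⟨⟨⟨nu g v, by simp only [nu, map_add, g3]; abel⟩, ⟨w, b2⟩, c, d⟩, ?_⟩
      have e2 : w + c • u + d • s u = j + pr v := by
        generalize c • u = m1, d • s u = m3 at *
        simp only [pr, map_add, g3] at e1 ⊢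
        lc e1
      simp only [e2, pr, nu, map_add, g3, Φg.2.1 j b1]
      ch2
  simpa only [Nat.card_prod, Nat.card_zmod] using this

theorem centre (hc : Ce x y a) (hs : s ω = ω) (h1 : a (s ζ) ≠ s ζ) {c : Γ V}
    (e : a * (s * a * s⁻¹) * (a * (s * a * s⁻¹)) = c) :
    (∀ v, c (x v) = x (c v)) ∧ (∀ v, U1 x y v → c v = v) ∧ y (c (s ζ)) ≠ c (s ζ) := by
  obtain ⟨c1, c2, c3⟩ := hc
  set b := s * a * s⁻¹ with hb
  let J0 : V → Prop := fun v => U1 x y v ∨ U1 x y (v + ω)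
  let J1 : V → Prop := fun v => J0 (nu x v)
  have J0a : ∀ v w, J0 v → J0 w → J0 (v + w) := by
    rintro v w (h1 | h1) (h2 | h2)
    · exact .inl (h1.add h2)
    · exact .inr (by rw [add_assoc]; exact h1.add h2)
    · exact .inr (by rw [add_right_comm]; exact h1.add h2)
    · exact .inl (by rw [show v + w = v + ω + (w + ω) by ch2]; exact h1.add h2)
  have J0x : ∀ v, J0 v → x v = v := by
    rintro v (h1 | h1)
    · exact h1.1
    · simpa [h.ωW.1] using h1.1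
  have J0s : ∀ v, J0 v → J0 (s v) := fun v hv =>
    hv.imp h.s_U1 fun h1 => by rw [← hs, ← map_add]; exact h.s_U1 h1
  have J0s' : ∀ v, J0 (s v) → J0 v := fun v hv => hv.imp
    (fun h1 => by obtain ⟨m, a1, e⟩ := h.si_U1 h1; rwa [← s.injective e]) fun h1 => by
      obtain ⟨m, a1, e⟩ := h.si_U1 h1
      rw [← hs, ← map_add] at e
      rwa [← s.injective e]
  have J0ω : J0 ω := .inr (by rw [two]; exact U1.zero)
  have a0 : ∀ v, J0 v → a v = v := by
    rintro v (h1 | h1)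
    · exact c2 v h1
    · simpa [h.aω] using c2 _ h1
  have J01 : ∀ v, J0 v → J1 v := fun v hv => by simpa only [J1, nu_fix (J0x v hv)]
  have J1a : ∀ v w, J1 v → J1 w → J1 (v + w) := fun v w h1 h2 => by
    simp only [J1, nu_add]; exact J0a _ _ h1 h2
  have aU : ∀ u1 u2 u3 u4, U1 x y u1 → U2 x y u2 → U3 x y u3 → U4 x y u4 →
      J0 (a (u1 + u2 + u3 + u4) + (u1 + u2 + u3 + u4)) := fun u1 u2 u3 u4 a1 a2 a3 a4 => by
    rw [show a (u1 + u2 + u3 + u4) + (u1 + u2 + u3 + u4) = a u2 + u2 + (a u3 + u3 + (a u4 + u4)) by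
      simp only [map_add, c2 _ a1]; ch2]
    refine J0a _ _ ?_ (.inl ((c1 _ (h.nu3 a3)).add (c1 _ (h.nu4 a4))))
    rcases h.aU2 a2 with e | e <;> rw [e]
    · rw [two]; exact .inl U1.zero
    · rwa [show u2 + ω + u2 = ω by ch2]
  have a1 : ∀ v, J1 v → J0 (a v + v) := fun v hv => by
    obtain ⟨w, u1, u2, u3, u4, b0, b1, b2, b3, b4, rfl⟩ := h.dec' v
    simp only [J1, nu_add, nu_fix b0.1, nu_fix b1.1, b2.2, b3.2, b4.2, add_zero] at hv
    have := J0a _ _ hv (.inl b1)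
    rw [add_assoc, two, add_zero] at this
    have e := aU _ _ _ _ b1 b2 b3 b4
    rwa [show a (u1 + u2 + u3 + u4) + (u1 + u2 + u3 + u4) = a (w + u1 + u2 + u3 + u4) +
      (w + u1 + u2 + u3 + u4) by simp only [map_add, a0 w this]; ch2] at e
  have a2 : ∀ v, J1 (a v + v) := fun v => by
    obtain ⟨w, u1, u2, u3, u4, b0, b1, b2, b3, b4, rfl⟩ := h.dec' v
    rw [show a (w + u1 + u2 + u3 + u4) + (w + u1 + u2 + u3 + u4) = a w + w +
      (a (u1 + u2 + u3 + u4) + (u1 + u2 + u3 + u4)) by simp only [map_add]; ch2]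
    refine J1a _ _ ?_ (J01 _ (aU _ _ _ _ b1 b2 b3 b4))
    rcases h.aW b0 with e | e <;> rw [e]
    · rw [two]; exact J01 _ (.inl U1.zero)
    · rw [show w + u + ω + w = u + ω by ch2]
      simpa only [J1, nu_add, h.uU.2, zero_add, nu_fix h.ωW.1]
  have b0 : ∀ v, J0 v → b v = v := fun v hv => by
    obtain ⟨v, rfl⟩ := s.surjective v
    rw [bs, a0 v (J0s' v hv)]
  have b1 : ∀ v, J1 v → J0 (b v + v) := fun v hv => by
    obtain ⟨v, rfl⟩ := s.surjective v
    rw [bs, ← map_add]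
    exact J0s _ (a1 v (J0s' _ (h.nu_s v ▸ hv)))
  have b2 : ∀ v, J1 (b v + v) := fun v => by
    obtain ⟨v, rfl⟩ := s.surjective v
    rw [bs, ← map_add]
    simp only [J1, h.nu_s]
    exact J0s _ (a2 v)
  have bb : ∀ v, b (b v) = v := fun v => by
    obtain ⟨v, rfl⟩ := s.surjective v
    rw [bs, bs, h.aa]
  have cv : ∀ v, c v = a (b (a (b v))) := fun v => by rw [← e]; rfl
  have cJ : ∀ v, J1 v → c v = v := fun v hv => by
    have e1 := a0 _ (a1 v hv)
    have e2 := b0 _ (a1 v hv)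
    have e3 := a0 _ (b1 v hv)
    have e4 : b (a (b v)) = a v := by
      rw [show a (b v) = a v + v + b v by simp only [map_add] at e3; lc e3, map_add, e2, bb]; ch2
    rw [cv, e4, h.aa]
  have cd : ∀ v, c (b (a v)) = b (a v) + (a (b v + v) + (b v + v) + (b (a v + v) + (a v + v))) :=
    fun v => by rw [cv, bb, h.aa]; simp only [map_add]; ch2
  have cx : ∀ v, J0 (c v + v) := fun v => by
    have := cd (a (b v))
    rw [h.aa, bb] at this
    rw [this, add_assoc, add_comm, add_assoc, two, add_zero]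
    exact J0a _ _ (a1 _ (b2 _)) (by simpa only [h.aa] using b1 _ (a2 (a (b v))))
  refine ⟨fun v => ?_, fun v hv => cJ v (J01 v (.inl hv)), fun e => ?_⟩
  · have e1 := J0x _ (cx v)
    have e2 := cJ (x v + v) (by
      simp only [J1, nu_add, ← nu_comm (g := x) (k := x) fun _ => rfl]
      rw [show x (nu x v) = nu x v by simp only [nu, map_add, h.x3]; abel, two]
      exact .inl U1.zero)
    simp only [map_add] at e1 e2
    lc e1 + e2
  · have e1 := (h.aW (h.s_W h.ζW)).resolve_left h1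
    have e2 : b (s ζ) = s ζ := by rw [bs, h.aζ]
    have e3 : b ω = ω := b0 _ J0ω
    have e4 := cd (s ζ)
    obtain ⟨m, m1, m2⟩ := h.si_U2 h.uU
    have e5 : U1 x y (b u + u) := by rw [← m2, bs, ← map_add]; exact h.s_U1 (c1 m (h.nu4 m1))
    have e6 := cJ _ (J1a _ _ (b2 (a (s ζ))) (a2 (s ζ)))
    have e7 : c (s ζ) = s ζ + (b u + u) := by
      simp only [map_add, e1, e2, e3, map_zero, two] at e4 e6
      lc e4 + e6
    rw [e7, map_add, (h.s_W h.ζW).2, add_right_inj] at e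
    have e8 := (nu_fix e).symm.trans e5.2
    refine c3 m m1 (fun e => h.u0 (by rw [← m2, e, map_zero])) (s.injective ?_)
    rw [← bs, m2]
    lc e8

theorem axis (hc : Ax x y a) : (∀ v, nu x (a v + v) = 0 ∨ nu x (a v + v) = ω) ∧
    ∀ v, nu x v = 0 ∨ nu x v = ω → a v + v = 0 ∨ a v + v = ω := by
  obtain ⟨h3, h4, h1⟩ := hc
  refine ⟨fun v => ?_, fun v hv => ?_⟩ <;>
    obtain ⟨w, u1, u2, u3, u4, a0, a1, a2, a3, a4, rfl⟩ := h.dec' v
  · rw [show a (w + u1 + u2 + u3 + u4) + (w + u1 + u2 + u3 + u4) = a w + w + (a u2 + u2) +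
      (a u1 + u1) by simp only [map_add, h3 _ a3, h4 _ a4]; ch2, nu_add, h1 _ a1, add_zero]
    rcases h.aW a0 with e | e <;> rcases h.aU2 a2 with e' | e' <;> rw [e, e'] <;>
      simp only [nu_add, nu_fix a0.1, nu_fix h.ωW.1, h.uU.2, a2.2]
    · left; ch2
    · right; ch2
    · right; ch2
    · left; ch2
  · simp only [nu_add, nu_fix a0.1, nu_fix a1.1, a2.2, a3.2, a4.2, add_zero] at hv
    have e1 : a (w + u1) = w + u1 := by rcases hv with e | e <;> rw [e] <;> simp [h.aω]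
    rw [show a (w + u1 + u2 + u3 + u4) + (w + u1 + u2 + u3 + u4) = a u2 + u2 by
      simp only [map_add _ _ u4, map_add _ _ u3, map_add _ _ u2, e1, h3 _ a3, h4 _ a4]; ch2]
    rcases h.aU2 a2 with e' | e' <;> rw [e']
    · left; ch2
    · right; ch2

end Hy

end Cfsg.Lib.J4T.Cal
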