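import Cfsg.Agent.J4T.TW
import Cfsg.Agent.Gold.TFMod
import Cfsg.Agent.FT.BG4.Elem
import Cfsg.Agent.Local.ProdCard
import Cfsg.Agent.SporChar.J4CM

/-! Groups with an element of order three whose centralizer is the sixfold cover of `M₂₂`:
the extraspecial group. -/

set_option autoImplicit false

namespace Cfsg.Lib.J4T

open Subgroup Cfsg.Lib.Spor Cfsg.Lib.SporChar Cfsg.Lib.Local Cfsg.Lib.SporChar.J4 Cfsg.Lib.Trans
  Cfsg.Lib.Spor.MP Equiv
open scoped commutatorElement Pointwise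

variable {G : Type*} [Group G] {x z y g : G} {p : G → Perm GolayPt} {R : Subgroup G}

theorem card_inf_conj {X : Subgroup G} {k u : G} (hk : k ∈ normalizer (X : Set G)) :
    Nat.card ↥(X ⊓ centralizer ({k * u * k⁻¹} : Set G)) =
      Nat.card ↥(X ⊓ centralizer ({u} : Set G)) := by
  have : X ⊓ centralizer ({k * u * k⁻¹} : Set G) =
      (X ⊓ centralizer ({u} : Set G)).map (MulAut.conj k).toMonoidHom := by
    ext c
    constructor
    · rintro ⟨h1, h2⟩
      refine ⟨k⁻¹ * c * k, ⟨?_, Six.conj_cent.1 h2⟩, by simp [mul_assoc]⟩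
      simpa using (mem_normalizer_iff.1 (inv_mem hk) c).1 h1
    · rintro ⟨c, ⟨h1, h2⟩, rfl⟩
      exact ⟨(mem_normalizer_iff.1 hk c).1 h1, Six.conj_cent.2 (by simpa [mul_assoc] using h2)⟩
  rw [this, card_map_of_injective (MulAut.conj k).injective]

namespace Six

variable [Finite G] (h : Six x z p)
include h

theorem card_le_map {K : Subgroup G} (hK : K ≤ centralizer ({x} : Set G)) {S : Subgroup _}
    (hS : ∀ k ∈ K, p k ∈ S) : Nat.card K ≤ 6 * Nat.card S := by
  have e := FT.card_eq_card_map_mul h.hom (K.subgroupOf _)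
  rw [Nat.card_congr (subgroupOfEquivOfLe hK).toEquiv] at e
  rw [e, mul_comm]
  refine Nat.mul_le_mul ?_ (Subgroup.card_le_of_le ?_)
  · refine (Subgroup.card_le_of_le inf_le_left).trans ?_
    rw [h.ker_hom, Nat.card_congr (subgroupOfEquivOfLe h.ker_le).toEquiv, h.card_ker]
  · rintro _ ⟨k, hk, rfl⟩; exact hS k hk

theorem card_cent_two {w : G} (hw : w ∈ centralizer ({x} : Set G)) (h2 : w * w = 1)
    (hn : w ∉ zpowers z) :
    Nat.card ↥(centralizer ({x} : Set G) ⊓ centralizer ({w} : Set G)) ≤ 2304 := by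
  have o : orderOf (p w) = 2 := by
    have : Fact (Nat.Prime 2) := ⟨Nat.prime_two⟩
    refine orderOf_eq_prime (by rw [pow_two, ← h.p_mul w hw w hw, h2, h.p_one]) fun e => hn ?_
    exact h.mem_zz (n := 1) ((h.p_eq_one w hw).1 e) (by rw [pow_one, pow_two, h2])
  have := h.card_le_map (K := centralizer ({x} : Set G) ⊓ centralizer ({w} : Set G))
    (S := Spor.M22 ⊓ centralizer {p w}) inf_le_left fun k hk =>
      ⟨h.p_mem k, mC.2 (by rw [← h.p_mul k hk.1 w hw, ← h.p_mul w hw k hk.1, mC.1 hk.2])⟩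
  rwa [cent22_two (h.p_mem w) o] at this

theorem card_cent_three {w : G} (hw : w ∈ centralizer ({x} : Set G)) (h3 : w ^ 3 = 1)
    (hn : w ∉ zpowers x) :
    72 ≤ Nat.card ↥(centralizer ({x} : Set G) ⊓ centralizer ({w} : Set G)) := by
  set S := Spor.M22 ⊓ centralizer {p w}
  set K := (S.comap h.hom).map (centralizer ({x} : Set G)).subtype
  have hK : Nat.card K = 216 := by
    rw [card_map_of_injective (subtype_injective _),
      FT.card_eq_card_map_mul h.hom (S.comap h.hom),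
      map_comap_eq_self (by rw [h.range_hom]; exact inf_le_left), inf_eq_left.2 (ker_le_comap _ _),
      h.ker_hom, Nat.card_congr (subgroupOfEquivOfLe h.ker_le).toEquiv, h.card_ker,
      cent22_three (h.p_mem w) (h.ord_p hw h3 hn)]
  have h1 := FT.BG4.card_le_card_mul_card_inf_centralizer (H := K) (S := zpowers x) (v := w) (by
    rintro _ ⟨k, hk, rfl⟩
    have hk' : p k * p w = p w * p k := mC.1 hk.2
    have hm : ⁅(k : G), w⁆ ∈ centralizer ({x} : Set G) := by
      rw [commutatorElement_def]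
      exact mul_mem (mul_mem (mul_mem k.2 hw) (inv_mem k.2)) (inv_mem hw)
    have h4 : ⁅(k : G), w⁆ ∈ zpowers x ⊔ zpowers z := by
      refine (h.p_eq_one _ hm).1 ?_
      rw [commutatorElement_def, h.p_mul _ (mul_mem (mul_mem k.2 hw) (inv_mem k.2)) _ (inv_mem hw),
        h.p_conj k.2 hw, h.p_inv hw, hk']
      group
    refine h.mem_zx (n := 1) h4 ?_
    have c1 : Commute ⁅(k : G), w⁆ w := (h.ker_comm h4 hw).symm
    have := c1.mul_pow 3
    rw [show ⁅(k : G), w⁆ * w = k * w * (k : G)⁻¹ by rw [commutatorElement_def]; group, conj_pow,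
      h3] at this
    rw [pow_one]; simpa using this.symm)
  rw [hK, Nat.card_zpowers, h.x3] at h1
  have : Nat.card ↥(K ⊓ centralizer ({w} : Set G)) ≤
      Nat.card ↥(centralizer ({x} : Set G) ⊓ centralizer ({w} : Set G)) :=
    Subgroup.card_le_of_le (inf_le_inf_right _ (map_subtype_le _))
  omega

omit [Finite G] in
theorem inf_x {X : Subgroup G} (hX : IsPGroup 2 X)
    (hn : centralizer ({x} : Set G) ≤ normalizer (X : Set G)) (hz : z ∈ X) :
    X ⊓ centralizer ({x} : Set G) = zpowers z :=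
  le_antisymm (fun _ hq => h.mem_zp_of_norm hX hn hq.1 hq.2) (zpowers_le.2 ⟨hz, h.zC⟩)

omit [Finite G] in
theorem card_zp : Nat.card (zpowers z) = 2 := by rw [Nat.card_zpowers, h.z2]

omit [Finite G] in
theorem not_mem_two {X : Subgroup G} (hX : IsPGroup 2 X) : x ∉ X := fun hx => by
  obtain ⟨n, hn⟩ := hX ⟨x, hx⟩
  have := pow_gcd_eq_one.2 ⟨congrArg Subtype.val hn, h.cube⟩
  rw [show Nat.gcd (2 ^ n) 3 = 1 from cop23 n, pow_one] at this
  exact h.x_ne this

theorem card_ge {X : Subgroup G} (hX : IsPGroup 2 X)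
    (hn : centralizer ({x} : Set G) ≤ normalizer (X : Set G)) (hz : z ∈ X)
    (h1 : ¬ X ≤ zpowers z) : 2 ^ 11 ≤ Nat.card X := by
  have : Fact (Nat.Prime 2) := ⟨Nat.prime_two⟩
  obtain ⟨σ, hσ, o⟩ := exists_eleven
  obtain ⟨c, hc, rfl⟩ := h.p_surj σ hσ
  have h6 : ∀ w ∈ zpowers x ⊔ zpowers z, w ^ 6 = 1 := fun w hw => by
    have := pow_card_eq_one' (x := (⟨w, hw⟩ : ↥(zpowers x ⊔ zpowers z)))
    rw [h.card_ker] at this
    exact congrArg Subtype.val this
  have hc6 : c ^ 6 ∈ centralizer ({x} : Set G) := Subgroup.pow_mem _ hc 6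
  have e11 : (c ^ 6) ^ 11 ^ 1 = 1 := by
    rw [pow_one, ← pow_mul, mul_comm, pow_mul]
    refine h6 _ ((h.p_eq_one _ (Subgroup.pow_mem _ hc 11)).1 ?_)
    rw [h.p_pow hc, ← o, pow_orderOf_eq_one]
  have hm := Gold.TF.card_modEq_inf_centralizer (by norm_num : Nat.Prime 11) e11 (hn hc6)
  have hne : ¬ X ≤ centralizer ({c ^ 6} : Set G) := fun hle => by
    rcases h.le_or_le (X := centralizer (X : Set G))
      (hn.trans (normalizer_le_normalizer_centralizer X)) with e | e
    · exact h1 fun q hq => h.mem_zp_of_norm hX hn hq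
        (mC.2 (mem_centralizer_iff.1 (e xC) q hq))
    · have := (h.p_eq_one _ hc6).2 (e ⟨mem_centralizer_iff.2 fun q hq => mC.1 (hle hq), hc6⟩)
      rw [h.p_pow hc, ← orderOf_dvd_iff_pow_eq_one, o] at this
      omega
  obtain ⟨a, ha⟩ := hX.exists_card_eq
  obtain ⟨b, hb⟩ := (hX.to_inf_left (K := centralizer ({c ^ 6} : Set G))).exists_card_eq
  have h2 := card_lt_of_lt (lt_of_le_of_ne
    (inf_le_left : X ⊓ centralizer ({c ^ 6} : Set G) ≤ X) fun e => hne (e ▸ inf_le_right))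
  have h3 := card_dvd_of_le (zpowers_le.2 (mem_inf.2 ⟨hz, mC.2 (mC.1 (h.cent hc6)).symm⟩ :
    z ∈ X ⊓ centralizer ({c ^ 6} : Set G)))
  rw [h.card_zp, hb] at h3
  rw [ha, hb] at hm h2
  rw [ha]
  have h4 : b < a := (Nat.pow_lt_pow_iff_right (by norm_num)).1 h2
  by_contra h5
  have h6 : a < 11 := by
    by_contra h7
    exact h5 (Nat.pow_le_pow_right (by norm_num) (by omega))
  unfold Nat.ModEq at hm
  interval_cases a <;> interval_cases b <;> simp_all

end Six

namespace Fs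

variable (h : Fs x z y g p)
include h

theorem sy : Six y (g * z * g⁻¹) (fun a => p (g⁻¹ * a * g)) := h.eq_y ▸ h.toSix.conj g

theorem y3 : orderOf y = 3 := h.sy.x3

theorem ycube : y ^ 3 = 1 := h.sy.cube

theorem xy : Commute x y := (mC.1 h.yC).symm

theorem x_mem : x ∈ centralizer ({y} : Set G) := mC.2 h.xy

variable [Finite G]

theorem card_cls {X : Subgroup G} (hn : centralizer ({x} : Set G) ≤ normalizer (X : Set G))
    {u : G} (hu : u ∈ centralizer ({x} : Set G)) (h3 : u ^ 3 = 1) (h1 : u ∉ zpowers x) :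
    Nat.card ↥(X ⊓ centralizer ({u} : Set G)) = Nat.card ↥(X ⊓ centralizer ({y} : Set G)) := by
  obtain ⟨k, hk, rfl⟩ := h.cls h.yC h.ycube h.y_not hu h3 h1
  exact card_inf_conj (hn hk)

theorem wiel {X : Subgroup G} (hX : IsPGroup 2 X)
    (hn : centralizer ({x} : Set G) ≤ normalizer (X : Set G)) (hz : z ∈ X) :
    4 * Nat.card X = Nat.card ↥(X ⊓ centralizer ({y} : Set G)) ^ 3 := by
  have : Fact (Nat.Prime 2) := ⟨Nat.prime_two⟩
  obtain ⟨a, ha⟩ := hX.exists_card_eq
  have := hX.isNilpotent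
  have e := wielandt_nine h.x3 h.y3 h.xy h.y_not (M := X) inferInstance (hn Six.xC) (hn h.yC)
    (by rw [ha]; exact cop23 a)
  rw [← inf_assoc, h.inf_x hX hn hz, inf_eq_left.2 (zpowers_le.2 (mC.2 (mC.1 (h.cent h.yC)).symm)),
    h.card_zp, h.card_cls hn (mul_mem h.yC Six.xC)
      (by rw [h.xy.symm.mul_pow, h.cube, h.ycube, mul_one])
      (fun e => h.y_not ((Subgroup.mul_mem_cancel_right _ (mem_zpowers x)).1 e)),
    h.card_cls hn (mul_mem h.yC (inv_mem Six.xC))
      (by rw [h.xy.symm.inv_right.mul_pow, inv_pow, h.cube, h.ycube]; simp)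
      (fun e => h.y_not ((Subgroup.mul_mem_cancel_right _ (inv_mem (mem_zpowers x))).1 e))] at e
  nlinarith [e]

theorem exists_inv : ∃ k : G, k * x * k⁻¹ = x⁻¹ := by
  obtain ⟨u, -, e⟩ := h.cls h.yC h.ycube h.y_not (inv_mem h.yC) (by rw [inv_pow, h.ycube, inv_one])
    (fun e => h.y_not (inv_mem_iff.1 e))
  refine ⟨g⁻¹ * u * g, ?_⟩
  calc g⁻¹ * u * g * x * (g⁻¹ * u * g)⁻¹ = g⁻¹ * (u * (g * x * g⁻¹) * u⁻¹) * g := by group
    _ = _ := by rw [h.eq_y, e, ← h.eq_y]; group

end Fs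

/-- A self-centralizing normal 2-subgroup of `C(z)`. -/
structure Lc (x z y g : G) (p : G → Perm GolayPt) (R : Subgroup G) : Prop
    extends Fs x z y g p where
  two : IsPGroup 2 R
  zR : z ∈ R
  norm : centralizer ({z} : Set G) ≤ normalizer (R : Set G)
  RH : R ≤ centralizer ({z} : Set G)
  self : centralizer (R : Set G) ≤ R

namespace Lc

variable (h : Lc x z y g p R)
include h

theorem nC : centralizer ({x} : Set G) ≤ normalizer (R : Set G) := h.cent.trans h.norm

theorem not_le : ¬ R ≤ zpowers z := fun hle =>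
  h.not_mem_two h.two (h.self (mem_centralizer_iff.2 fun _ hq =>
    (h.ker_comm (mem_sup_right (hle hq)) Six.xC).symm))

theorem fix {q : G} (hq : q ∈ R) (hc : q ∈ centralizer ({x} : Set G)) : q ∈ zpowers z :=
  h.mem_zp_of_norm h.two h.nC hq hc

theorem conj_zp {c w : G} (hc : c ∈ centralizer ({z} : Set G)) (hw : w ∈ zpowers z) :
    c * w * c⁻¹ = w := by
  rcases (mem_zpowers_iff_of_orderOf_two h.z2).1 hw with rfl | rfl
  · simp
  · exact mC'.1 hc

variable [Finite G]

theorem ne : z ∉ zpowers (g * z * g⁻¹) := fun e => by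
  have e1 : z = g * z * g⁻¹ :=
    ((mem_zpowers_iff_of_orderOf_two h.sy.z2).1 e).resolve_left h.z_ne
  have h1 := h.sy.inf_x h.two (h.sy.cent.trans (e1 ▸ h.norm)) (e1 ▸ h.zR)
  have h2 := h.wiel h.two h.nC h.zR
  have h3 := h.card_ge h.two h.nC h.zR h.not_le
  rw [h1, h.sy.card_zp] at h2
  omega

theorem zy_not : g * z * g⁻¹ ∉ R := fun e => by
  have h1 := h.fix e (mC.2 (mC.1 (h.sy.cent h.x_mem)).symm)
  rcases (mem_zpowers_iff_of_orderOf_two h.z2).1 h1 with e1 | e1
  · exact h.sy.z_ne e1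
  · exact h.ne (by rw [e1]; exact mem_zpowers z)

theorem card_Hy : Nat.card ↥(centralizer ({y} : Set G) ⊓ centralizer ({z} : Set G)) ≤ 2304 :=
  h.sy.card_cent_two (mC.2 (mC.1 (h.cent h.yC)).symm) h.zz h.ne

theorem card_sup_ge : 36 * Nat.card ↥(R ⊓ centralizer ({y} : Set G)) ≤
    Nat.card ↥((R ⊓ centralizer ({y} : Set G)) ⊔
      (centralizer ({x} : Set G) ⊓ centralizer ({y} : Set G))) := by
  have h1 := CD.card_mul_le_card_sup_mul_card_inf (R ⊓ centralizer ({y} : Set G))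
    (centralizer ({x} : Set G) ⊓ centralizer ({y} : Set G))
  have h2 := h.card_cent_three h.yC h.ycube h.y_not
  have h3 := Subgroup.card_le_of_le (show (R ⊓ centralizer ({y} : Set G)) ⊓
    (centralizer ({x} : Set G) ⊓ centralizer ({y} : Set G)) ≤ zpowers z from
      fun q hq => h.fix hq.1.1 hq.2.1)
  rw [h.card_zp] at h3
  nlinarith

theorem card_le : Nat.card ↥(R ⊓ centralizer ({y} : Set G)) ≤ 32 := by
  have : Fact (Nat.Prime 2) := ⟨Nat.prime_two⟩
  have h1 := h.card_sup_ge.trans ((Subgroup.card_le_of_le (sup_le (le_inf inf_le_right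
    (inf_le_left.trans h.RH)) (le_inf inf_le_right (inf_le_left.trans h.cent)))).trans h.card_Hy)
  have h2 := Gold.TF.card_modEq_inf_centralizer (D := R ⊓ centralizer ({y} : Set G)) (j := 1)
    Nat.prime_three (by rw [pow_one, h.cube]) (inf_normalizer_le_normalizer_inf ⟨h.nC Six.xC, by
      rw [← centralizer_zpowers_eq_sing]
      exact normalizer_le_normalizer_centralizer _ (h.sy.mem_norm.2 (Or.inl (mC'.1 h.x_mem)))⟩)
  rw [inf_right_comm, h.inf_x h.two h.nC h.zR,
    inf_eq_left.2 (zpowers_le.2 (mC.2 (mC.1 (h.cent h.yC)).symm)), h.card_zp] at h2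
  obtain ⟨a, ha⟩ := (h.two.to_inf_left (K := centralizer ({y} : Set G))).exists_card_eq
  rw [ha] at h1 h2 ⊢
  have : a < 7 := by
    by_contra h3
    have := Nat.pow_le_pow_right (by norm_num : 0 < 2) (not_lt.1 h3)
    omega
  unfold Nat.ModEq at h2
  interval_cases a <;> simp_all

theorem card_of {X : Subgroup G} (hX : X ≤ R)
    (hn : centralizer ({x} : Set G) ≤ normalizer (X : Set G)) (hz : z ∈ X)
    (h1 : ¬ X ≤ zpowers z) :
    Nat.card ↥(X ⊓ centralizer ({y} : Set G)) = 32 ∧ Nat.card X = 2 ^ 13 := by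
  have : Fact (Nat.Prime 2) := ⟨Nat.prime_two⟩
  have h2 := h.two.to_le hX
  have h3 := h.wiel h2 hn hz
  have h4 := h.card_ge h2 hn hz h1
  have h5 := (Subgroup.card_le_of_le (inf_le_inf_right (centralizer ({y} : Set G)) hX)).trans h.card_le
  obtain ⟨a, ha⟩ := (h2.to_inf_left (K := centralizer ({y} : Set G))).exists_card_eq
  rw [ha] at h3 h5 ⊢
  have : a < 6 := by
    by_contra h3
    have := Nat.pow_le_pow_right (by norm_num : 0 < 2) (not_lt.1 h3)
    omega
  interval_cases a <;> omega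

theorem cardR : Nat.card R = 2 ^ 13 := (h.card_of le_rfl h.nC h.zR h.not_le).2

theorem card32 : Nat.card ↥(R ⊓ centralizer ({y} : Set G)) = 32 :=
  (h.card_of le_rfl h.nC h.zR h.not_le).1

theorem eq_of {X : Subgroup G} (hX : X ≤ R)
    (hn : centralizer ({x} : Set G) ≤ normalizer (X : Set G)) (hz : z ∈ X)
    (h1 : ¬ X ≤ zpowers z) : X = R :=
  eq_of_le_of_card_ge hX (by rw [(h.card_of hX hn hz h1).2, h.cardR])

theorem step : ∃ r ∈ R, r ∉ zpowers z ∧ r * r ∈ zpowers z ∧ ∀ q ∈ R, ⁅r, q⁆ ∈ zpowers z := by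
  have : Fact (Nat.Prime 2) := ⟨Nat.prime_two⟩
  obtain ⟨r, h1, h2, -, h3, h4⟩ := Solv.PG.exists_step_elt (P := R) (M := zpowers z) h.two h.two
    (h.RH.trans (by rw [← centralizer_zpowers_eq_sing]; exact centralizer_le_normalizer _))
    le_normalizer (lt_of_le_not_ge (zpowers_le.2 h.zR) h.not_le)
  exact ⟨r, h1, h2, by rwa [← pow_two], fun q hq => h4 q (mem_sup_left hq)⟩

theorem comm {a b : G} (ha : a ∈ R) (hb : b ∈ R) : a * b * a⁻¹ * b⁻¹ ∈ zpowers z := by
  obtain ⟨K, hK⟩ := exists_commSubgroup (zpowers z) (R : Set G)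
  have hN : centralizer ({z} : Set G) ≤ normalizer (zpowers z : Set G) := by
    rw [← centralizer_zpowers_eq_sing]; exact centralizer_le_normalizer _
  obtain ⟨r, h1, h2, -, h3⟩ := h.step
  have e := h.eq_of (X := R ⊓ K) inf_le_left (fun c hc => mem_normalizer_fintype fun a ha => by
      have h4 := (mem_normalizer_iff.1 (h.nC hc) a).1 ha.1
      refine ⟨h4, (hK _).2 ⟨hN (h.RH h4), fun q hq => ?_⟩⟩
      have h5 := ((hK a).1 ha.2).2 _ ((mem_normalizer_iff.1 (h.nC (inv_mem hc)) q).1 hq)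
      have h6 := h.conj_zp (h.cent hc) h5
      rw [← h6] at h5
      convert h5 using 1
      group)
    ⟨h.zR, (hK z).2 ⟨le_normalizer (mem_zpowers z), fun q hq => by
      rw [← mC.1 (h.RH hq)]; simp⟩⟩
    fun hle => h2 (hle ⟨h1, (hK r).2 ⟨hN (h.RH h1), h3⟩⟩)
  exact ((hK a).1 (e.ge ha).2).2 b hb

theorem sq {a : G} (ha : a ∈ R) : a * a ∈ zpowers z := by
  let X : Subgroup G :=
    { carrier := {a | a ∈ R ∧ a * a ∈ zpowers z}
      one_mem' := ⟨one_mem _, by simp⟩
      mul_mem' := fun {a b} ha hb => ⟨mul_mem ha.1 hb.1, by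
        have h1 := h.comm hb.1 ha.1
        have h2 := h.conj_zp (h.RH ha.1) h1
        have := mul_mem (mul_mem h1 ha.2) hb.2
        rw [← h2] at this
        convert this using 1
        group⟩
      inv_mem' := fun {a} ha => ⟨inv_mem ha.1, by rw [← mul_inv_rev]; exact inv_mem ha.2⟩ }
  obtain ⟨r, h1, h2, h3, -⟩ := h.step
  have e := h.eq_of (X := X) (fun _ ha => ha.1) (fun c hc => mem_normalizer_fintype fun a ha =>
    ⟨(mem_normalizer_iff.1 (h.nC hc) a).1 ha.1, by
      rw [conj_mul, h.conj_zp (h.cent hc) ha.2]; exact ha.2⟩)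
    ⟨h.zR, mul_mem (mem_zpowers z) (mem_zpowers z)⟩ fun hle => h2 (hle ⟨h1, h3⟩)
  exact (e.ge ha).2

theorem not_elem : ¬ ∀ a ∈ R, a * a = 1 := fun h2 => by
  set K := R ⊓ centralizer ({y} : Set G)
  have e := FT.card_eq_card_map_mul h.sy.hom (K.subgroupOf _)
  have h1 : h.sy.hom.ker ⊓ K.subgroupOf _ = ⊥ := by
    refine eq_bot_iff.2 fun a ha => ?_
    have h3 := h.sy.mem_zz (n := 1) ((h.sy.p_eq_one _ a.2).1 ha.1)
      (by rw [pow_one, pow_two]; exact h2 _ ha.2.1)
    rcases (mem_zpowers_iff_of_orderOf_two h.sy.z2).1 h3 with e1 | e1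
    · exact Subtype.ext e1
    · exact absurd (e1 ▸ ha.2.1) h.zy_not
  have h4 := J4C.card_dvd_sixteen (X := (K.subgroupOf _).map h.sy.hom) (a := none)
    (((map_le_range _ _).trans h.sy.range_hom.le).trans (M22_le_D22.trans D22_le_M24))
    (by
      rintro _ ⟨a, ha, rfl⟩
      rw [← map_mul, show a * a = 1 from Subtype.ext (h2 _ ha.1), map_one])
    (by
      rintro _ ⟨a, -, rfl⟩
      exact (mem_M22.1 (h.sy.p_mem a)).2.1)
  rw [Nat.card_congr (subgroupOfEquivOfLe inf_le_right).toEquiv, h.card32, h1, card_bot,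
    mul_one] at e
  rw [← e] at h4
  omega

theorem uniq {c : G} (hc : c ∈ R) (h1 : ∀ q ∈ R, q * c = c * q) (h2 : c * c = 1) :
    c ∈ zpowers z := by
  let X : Subgroup G :=
    { carrier := {a | a ∈ R ∧ (∀ q ∈ R, q * a = a * q) ∧ a * a = 1}
      one_mem' := ⟨one_mem _, by simp, by simp⟩
      mul_mem' := fun {a b} ha hb => ⟨mul_mem ha.1 hb.1,
        fun q hq => Commute.mul_right (ha.2.1 q hq) (hb.2.1 q hq), by
          rw [mul_assoc, ← mul_assoc b, ha.2.1 b hb.1, mul_assoc, hb.2.2, mul_one, ha.2.2]⟩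
      inv_mem' := fun {a} ha => ⟨inv_mem ha.1, fun q hq => Commute.inv_right (ha.2.1 q hq),
        by rw [← mul_inv_rev, ha.2.2, inv_one]⟩ }
  by_contra hn
  have e := h.eq_of (X := X) (fun _ ha => ha.1) (fun k hk => mem_normalizer_fintype fun a ha =>
    ⟨(mem_normalizer_iff.1 (h.nC hk) a).1 ha.1, fun q hq => by
      have := ha.2.1 _ ((mem_normalizer_iff.1 (h.nC (inv_mem hk)) q).1 hq)
      calc q * (k * a * k⁻¹) = k * (k⁻¹ * q * k⁻¹⁻¹ * a) * k⁻¹ := by group
        _ = _ := by rw [this]; group,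
      by rw [conj_mul, ha.2.2]; simp⟩)
    ⟨h.zR, fun q hq => mC.1 (h.RH hq), h.zz⟩ fun hle => hn (hle ⟨hc, h1, h2⟩)
  exact h.not_elem fun a ha => (e.ge ha).2.2

theorem pre : PreLX R z := by
  refine ⟨⟨h.zR, h.z2, fun q hq => mC.1 (h.RH hq), fun q hq => h.sq hq,
    fun c hc h1 h2 => h.uniq hc h1 h2⟩, fun a ha => ?_, h.norm, h.not_le⟩
  by_contra hn
  have e := h.eq_of (X := centralizer (R : Set G)) h.self
    (h.nC.trans (normalizer_le_normalizer_centralizer R))
    (mem_centralizer_iff.2 fun q hq => mC.1 (h.RH hq)) fun hle => hn (hle ha)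
  have key : ∀ b ∈ R, b ∉ zpowers z → b * b = z := fun b hb h1 =>
    ((mem_zpowers_iff_of_orderOf_two h.z2).1 (h.sq hb)).resolve_left fun e1 =>
      h1 (h.uniq hb (fun q hq => mem_centralizer_iff.1 (e.ge hb) q hq) e1)
  have h1 := key a (h.self ha) hn
  have h2 : zpowers z ≤ zpowers a := zpowers_le.2 (h1 ▸ mul_mem (mem_zpowers a) (mem_zpowers a))
  have h3 : R ≤ zpowers a := fun b hb => by
    by_cases h4 : b ∈ zpowers z
    · exact h2 h4
    have h5 := mul_mem (h.self ha) hb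
    have := h.uniq h5 (fun q hq => mem_centralizer_iff.1 (e.ge h5) q hq) (by
      rw [mul_assoc, ← mul_assoc b, mem_centralizer_iff.1 ha b hb, mul_assoc, key b hb h4,
        ← mul_assoc, h1, h.zz])
    exact (Subgroup.mul_mem_cancel_left _ (mem_zpowers a)).1 (h2 this)
  have h4 := card_dvd_of_le h3
  have h5 : orderOf a ∣ 4 := orderOf_dvd_of_pow_eq_one (by
    rw [show a ^ 4 = a * a * (a * a) by simp [pow_succ, mul_assoc], h1, h.zz])
  rw [h.cardR, Nat.card_zpowers] at h4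
  have := h4.trans h5
  omega

end Lc

end Cfsg.Lib.J4T
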